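/-
Coordinates of the members not commuting with a member whose local set is an orthogonal chart
(owner: helper28).

Main results (namespace `Cfsg.Agent.FischerMain.O3`):
* `Setup` : the hypotheses; `Pat` : the singular point of a member not commuting with `x`
* `Setup.fibre` : two members with one singular point differ by `x`
* `Setup.l0`, `Setup.l1`, `Setup.triangle` : commuting and orthogonality
* `Setup.exists_coord` : coherent signs
-/
import Cfsg.Agent.Lib.FischerMain.O3.Vectors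

set_option autoImplicit false
set_option linter.unusedSectionVars false

namespace Cfsg.Agent.FischerMain.O3

open Cfsg Cfsg.Agent.ThreeTransRank Cfsg.Agent.ThreeTrans Cfsg.Agent.Orth Module
open QuadraticMap (polar)

variable {G : Type*} [Group G] {D : Set G} {n : ℕ} {Q : QuadraticForm (ZMod 3) (Fin n → ZMod 3)}
  {c : ZMod 3} {ψ : (Fin n → ZMod 3) → G} {x : G}

/-- The singular vector `u` describes the points commuting with `z`. -/
def Pat (Q : QuadraticForm (ZMod 3) (Fin n → ZMod 3)) (c : ZMod 3) (ψ : (Fin n → ZMod 3) → G)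
    (z : G) (u : Fin n → ZMod 3) : Prop :=
  u ≠ 0 ∧ Q u = 0 ∧ ∀ v, Q v = c → (Commute (ψ v) z ↔ polar ⇑Q u v = 0)

/-- Signed vectors agree with commuting. -/
def Coh (Q : QuadraticForm (ZMod 3) (Fin n → ZMod 3)) (c : ZMod 3) (z : G) (u : Fin n → ZMod 3)
    (z' : G) (u' : Fin n → ZMod 3) : Prop :=
  Commute z z' ↔ polar ⇑Q u u' = c

/-- An orthogonal chart at `x` with the pattern of the other members. -/
structure Setup (D : Set G) (x : G) (Q : QuadraticForm (ZMod 3) (Fin n → ZMod 3)) (c : ZMod 3)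
    (ψ : (Fin n → ZMod 3) → G) : Prop where
  base : Base D
  le : 5 ≤ n
  hx : x ∈ D
  ch : Chart3 (adj D x) Q c ψ
  pat : ∀ z ∈ nonc D x, ∃ u, Pat Q c ψ z u

/-- Coherently signed vectors of the members not commuting with `x`. -/
structure Coord (D : Set G) (x : G) (Q : QuadraticForm (ZMod 3) (Fin n → ZMod 3)) (c : ZMod 3)
    (ψ : (Fin n → ZMod 3) → G) (U : G → Fin n → ZMod 3) : Prop where
  pat : ∀ z ∈ nonc D x, Pat Q c ψ z (U z)
  coh : ∀ z ∈ nonc D x, ∀ z' ∈ nonc D x, polar ⇑Q (U z) (U z') ≠ 0 → Coh Q c z (U z) z' (U z')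
  eq_of_commute : ∀ z ∈ nonc D x, ∀ z' ∈ nonc D x, polar ⇑Q (U z) (U z') = 0 → Commute z z' → z = z'
  conj_x : ∀ z ∈ nonc D x, U (x * z * x) = -U z
  inj : Set.InjOn U (nonc D x)
  surj : ∀ u, u ≠ 0 → Q u = 0 → ∃ z ∈ nonc D x, U z = u

theorem Pat.neg {z : G} {u : Fin n → ZMod 3} (h : Pat Q c ψ z u) : Pat Q c ψ z (-u) :=
  ⟨neg_ne_zero.2 h.1, (Q_neg u).trans h.2.1, fun v hv => by rw [pl_neg_left, neg_eq_zero]; exact h.2.2 v hv⟩

theorem Pat.of_or {z : G} {u u' : Fin n → ZMod 3} (h : Pat Q c ψ z u) (e : u = u' ∨ u = -u') :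
    Pat Q c ψ z u' := by
  rcases e with rfl | rfl
  · exact h
  · simpa using h.neg

theorem Coh.symm {z z' : G} {u u' : Fin n → ZMod 3} (h : Coh Q c z u z' u') : Coh Q c z' u' z u := by
  rw [Coh, pl_comm]; exact ⟨fun e => h.1 e.symm, fun e => (h.2 e).symm⟩

/-- A third conjugate does not commute with the first. -/
theorem not_commute_conj (hD : IsThreeTranspositionSet D) {a z : G} (ha : a ∈ D) (hz : z ∈ D)
    (h : ¬ Commute a z) : ¬ Commute z (a * z * a) := fun hc => h (by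
  rw [braid hD ha hz h] at hc
  have e := hc.eq
  rw [show z * (z * a * z) = z * z * (a * z) by group, mul_self hD hz, one_mul,
    show z * a * z * z = z * a * (z * z) by group, mul_self hD hz, mul_one] at e
  exact e)

namespace Setup

variable [Finite G] (S : Setup D x Q c ψ)
include S

theorem set : IsThreeTranspositionSet D := S.base.set

theorem adj_mem {v : Fin n → ZMod 3} (hv : Q v = c) : ψ v ∈ adj D x := S.ch.mem v hv

theorem psi_mem {v : Fin n → ZMod 3} (hv : Q v = c) : ψ v ∈ D := (S.adj_mem hv).1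

theorem psi_comm {v : Fin n → ZMod 3} (hv : Q v = c) : Commute x (ψ v) := (S.adj_mem hv).2.2

theorem psi_ne {v : Fin n → ZMod 3} (hv : Q v = c) : ψ v ≠ x := (S.adj_mem hv).2.1

theorem conj_nonc {a z : G} (ha : a ∈ D) (hax : Commute x a) (hz : z ∈ nonc D x) :
    a * z * a ∈ nonc D x := by
  refine ⟨S.base.conj_mem' ha hz.1, fun h => hz.2 ?_⟩
  have := (hax.mul_right h).mul_right hax
  rwa [show a * (a * z * a) * a = (a * a) * z * (a * a) by group, mul_self S.set ha, one_mul,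
    mul_one] at this

theorem xconj_nonc {z : G} (hz : z ∈ nonc D x) : x * z * x ∈ nonc D x :=
  S.conj_nonc S.hx (Commute.refl x) hz

theorem xconj_xconj (z : G) : x * (x * z * x) * x = z := by
  rw [show x * (x * z * x) * x = x * x * z * (x * x) by group, mul_self S.set S.hx, one_mul, mul_one]

theorem commute_xconj {z z' : G} : Commute (x * z * x) (x * z' * x) ↔ Commute z z' := by
  constructor
  · intro h
    have h' := h.map (MulAut.conj x).toMonoidHom
    simpa [inv_eq S.set S.hx, S.xconj_xconj] using h'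
  · intro h
    have h' := h.map (MulAut.conj x).toMonoidHom
    simpa [inv_eq S.set S.hx] using h'

theorem pat_xconj {z : G} {u : Fin n → ZMod 3} (h : Pat Q c ψ z u) : Pat Q c ψ (x * z * x) u := by
  refine ⟨h.1, h.2.1, fun v hv => ?_⟩
  rw [← h.2.2 v hv]
  have hxv : x * ψ v * x = ψ v := conj_conj_of_commute S.set S.hx (S.psi_comm hv)
  exact ⟨fun e => by rwa [← hxv, S.commute_xconj] at e,
    fun e => by rwa [← hxv, S.commute_xconj]⟩

theorem pat_conj {z : G} {u v : Fin n → ZMod 3} (h : Pat Q c ψ z u) (hv : Q v = c) :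
    Pat Q c ψ (ψ v * z * ψ v) (rv Q c v u) := by
  refine ⟨fun e => h.1 ?_, (rv_Q hv u).trans h.2.1, fun w hw => ?_⟩
  · rw [← rv_rv hv u, e, rv_eq_ap hv, map_zero]
  have hm := S.psi_mem hv
  have e : ψ (rv Q c v w) = ψ v * ψ w * ψ v := (S.ch.conj v w hv hw).symm
  rw [← rv_polar_right hv, ← h.2.2 _ ((rv_Q hv w).trans hw), e]
  constructor
  · intro hc
    have := hc.map (MulAut.conj (ψ v)).toMonoidHom
    simpa [inv_eq S.set hm, mul_assoc, mul_self S.set hm, mul_self_cancel S.set hm] using this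
  · intro hc
    have := hc.map (MulAut.conj (ψ v)).toMonoidHom
    simpa [inv_eq S.set hm, mul_assoc, mul_self S.set hm, mul_self_cancel S.set hm] using this

theorem pat_unique {z : G} {u u' : Fin n → ZMod 3} (h : Pat Q c ψ z u) (h' : Pat Q c ψ z u') :
    u' = u ∨ u' = -u :=
  eq_of_pattern S.ch.nd (by have := S.le; omega) h.1 h'.1 h.2.1 h'.2.1
    fun v hv => (h.2.2 v hv).symm.trans (h'.2.2 v hv)

/-- The chart at another member. -/
theorem chart_at {a : G} (ha : a ∈ D) :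
    ∃ φ : (Fin n → ZMod 3) → G, Chart3 (adj D a) Q c φ := by
  obtain ⟨g, hg⟩ := class_conj S.base.cls S.hx ha
  subst hg
  refine ⟨fun v => g * ψ v * g⁻¹, S.ch.c_ne, S.ch.nd, fun v hv => ?_, fun y hy => ?_,
    fun u v hu hv => ?_, fun u v hu hv => ?_, fun u v hu hv => ?_⟩
  · rw [adj_conj_image S.base.conj]; exact ⟨_, S.ch.mem v hv, rfl⟩
  · rw [adj_conj_image S.base.conj] at hy
    obtain ⟨y, hy, rfl⟩ := hy
    obtain ⟨v, hv, rfl⟩ := S.ch.surj y hy
    exact ⟨v, hv, rfl⟩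
  · rw [mul_left_inj, mul_right_inj]; exact S.ch.eq_iff u v hu hv
  · rw [← S.ch.comm u v hu hv]
    constructor
    · intro h
      have := h.map (MulAut.conj g⁻¹).toMonoidHom
      simpa [mul_assoc] using this
    · intro h
      have := h.map (MulAut.conj g).toMonoidHom
      simpa using this
  · show g * ψ u * g⁻¹ * (g * ψ v * g⁻¹) * (g * ψ u * g⁻¹) = g * ψ (rv Q c u v) * g⁻¹
    rw [← S.ch.conj u v hu hv]; group

/-- Two members with the same singular point differ by `x`. -/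
theorem fibre {z z' : G} (hz : z ∈ nonc D x) (hz' : z' ∈ nonc D x) {u : Fin n → ZMod 3}
    (h : Pat Q c ψ z u) (h' : Pat Q c ψ z' u) : z' = z ∨ z' = x * z * x := by
  have hn := S.le
  have hc := S.ch.c_ne
  obtain ⟨v, hv, huv⟩ := exists_norm_orth (c := c) S.ch.nd (by omega) h.1 h.2.1
  obtain ⟨φ, hφ⟩ := S.chart_at (S.psi_mem hv)
  have hin : ∀ {y : G}, y ∈ nonc D x → Pat Q c ψ y u → y ∈ adj D (ψ v) := fun {y} hy hp =>
    ⟨hy.1, fun e => hy.2 (e ▸ S.psi_comm hv), (hp.2.2 v hv).2 huv⟩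
  obtain ⟨p, hp, hpx⟩ := hφ.surj x ⟨S.hx, (S.psi_ne hv).symm, (S.psi_comm hv).symm⟩
  obtain ⟨q, hq, hqz⟩ := hφ.surj z (hin hz h)
  obtain ⟨q', hq', hqz'⟩ := hφ.surj z' (hin hz' h')
  have nonperp : ∀ {q₁ y}, Q q₁ = c → φ q₁ = y → y ∈ nonc D x → polar ⇑Q p q₁ ≠ 0 := by
    rintro q₁ y hq₁ rfl hy e
    exact hy.2 (hpx ▸ (hφ.comm p q₁ hp hq₁).2 (Or.inl e))
  have hb := nonperp hq hqz hz
  have hb' := nonperp hq' hqz' hz'
  set W := LinearMap.ker (Q.polarBilin p)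
  have memW : ∀ {w}, w ∈ W ↔ polar ⇑Q p w = 0 := Iff.rfl
  have hW : ∀ w ∈ W, w ≠ 0 → ∃ y ∈ W, polar ⇑Q w y ≠ 0 := by
    intro w hw hw0
    obtain ⟨y, hy⟩ := exists_polar_ne S.ch.nd hw0
    refine ⟨y + (c * polar ⇑Q p y) • p, memW.2 ?_, ?_⟩
    · rw [pl_add_right, pl_smul_right, polar_self_norm hp]
      linear_combination (-polar ⇑Q p y) * f3_sq c hc
    · rwa [pl_add_right, pl_smul_right, pl_comm Q w p, memW.1 hw, mul_zero, add_zero]
  have hdim : 4 ≤ finrank (ZMod 3) W := by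
    have h1 := LinearMap.finrank_range_add_finrank_ker (Q.polarBilin p)
    have h2 := Submodule.finrank_le (LinearMap.range (Q.polarBilin p))
    rw [finrank_space, Fintype.card_fin] at h1
    rw [Module.finrank_self] at h2
    change 4 ≤ finrank (ZMod 3) (LinearMap.ker (Q.polarBilin p))
    omega
  have rad : ∀ {q₁}, Q q₁ = c → polar ⇑Q p q₁ ≠ 0 →
      polar ⇑Q p (q₁ + (c * polar ⇑Q p q₁) • p) = 0 ∧ Q (q₁ + (c * polar ⇑Q p q₁) • p) = 0 := by
    intro q₁ h₁ hb₁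
    constructor
    · rw [pl_add_right, pl_smul_right, polar_self_norm hp]
      linear_combination (-polar ⇑Q p q₁) * f3_sq c hc
    · rw [Q_add, Q_smul, h₁, hp, pl_smul_right, pl_comm Q q₁ p]
      have h3 : (3 : ZMod 3) = 0 := rfl
      linear_combination (c * (polar ⇑Q p q₁ * polar ⇑Q p q₁)) * f3_sq c hc +
        (2 * c) * f3_sq _ hb₁ + c * h3
  obtain ⟨r1, r2⟩ := rad hq hb
  obtain ⟨r1', r2'⟩ := rad hq' hb'
  have rne : ∀ {q₁} {y : G}, Q q₁ = c → φ q₁ = y → y ∈ nonc D x → ∀ t : ZMod 3, q₁ + t • p ≠ 0 := by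
    rintro q₁ y h₁ rfl hy t e
    apply hy.2
    have e' : q₁ = -(t • p) := eq_neg_of_add_eq_zero_left e
    rcases f3_cases t with rfl | rfl | rfl
    · exact absurd (by simpa using e') (ne_zero_of_norm hc h₁)
    · rw [(hφ.eq_iff p q₁ hp h₁).2 (Or.inr (by simpa using e')) |>.symm, hpx]
    · rw [(hφ.eq_iff p q₁ hp h₁).2 (Or.inl (by simpa using e')) |>.symm, hpx]
  have step : ∀ w ∈ W, Q w = c → (polar ⇑Q (q + (c * polar ⇑Q p q) • p) w = 0 ↔
      polar ⇑Q (q' + (c * polar ⇑Q p q') • p) w = 0) := by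
    intro w hwW hw
    have hpw := memW.1 hwW
    have key : ∀ {q₁} {y : G}, Q q₁ = c → φ q₁ = y → y ∈ nonc D x → ∀ t : ZMod 3,
        (polar ⇑Q (q₁ + t • p) w = 0 ↔ Commute (φ w) y) := by
      rintro q₁ y h₁ rfl hy t
      rw [pl_add_left, pl_smul_left, hpw, mul_zero, add_zero, hφ.comm w q₁ hw h₁, pl_comm Q w q₁]
      refine ⟨Or.inl, ?_⟩
      rintro (e | rfl | rfl)
      · exact e
      · exact absurd hpw (nonperp h₁ rfl hy)
      · exact absurd (by rw [pl_neg_right, hpw, neg_zero]) (nonperp h₁ rfl hy)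
    rw [key hq hqz hz, key hq' hqz' hz']
    obtain ⟨v'', hv'', e⟩ := S.ch.surj (φ w) ⟨(hφ.mem w hw).1, fun e => by
        rcases (hφ.eq_iff p w hp hw).1 (hpx.trans e.symm) with e' | e' <;> subst e'
        · rw [polar_self_norm hp] at hpw; exact hc (neg_eq_zero.1 hpw)
        · rw [pl_neg_right, polar_self_norm hp, neg_neg] at hpw; exact hc hpw,
      hpx ▸ (hφ.comm p w hp hw).2 (Or.inl hpw)⟩
    rw [← e, h.2.2 _ hv'', h'.2.2 _ hv'']
  have hxz : x * z * x = φ (rv Q c p q) := by rw [← hφ.conj p q hp hq, hpx, hqz]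
  have hr : rv Q c p q = q + (-(c * polar ⇑Q p q)) • p := by rw [rv, f3_inv, sub_eq_add_neg, neg_smul]
  have hqr : Q (rv Q c p q) = c := (rv_Q hp q).trans hq
  rw [hxz, ← hqz, ← hqz']
  have main := sing_eq_of_pattern W hW hdim (memW.2 r1) (memW.2 r1') (rne hq hqz hz _)
    (rne hq' hqz' hz' _) r2 r2' step
  have three : ∀ t : ZMod 3, (3 * t) • p = 0 := fun t => by
    rw [show (3 : ZMod 3) = 0 from rfl, zero_mul, zero_smul]
  rcases f3_two_cases (polar ⇑Q p q') (polar ⇑Q p q) hb' hb with eb | eb <;> rw [eb] at main <;> rcases main with em | em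
  · left; exact congrArg φ (add_right_cancel em)
  · right
    refine ((hφ.eq_iff q' _ hq' hqr).2 (Or.inr ?_))
    rw [hr]
    linear_combination (norm := module) em - three (c * polar ⇑Q p q)
  · right
    refine ((hφ.eq_iff q' _ hq' hqr).2 (Or.inl ?_))
    rw [hr]
    linear_combination (norm := module) (-1 : ZMod 3) • em - three (c * polar ⇑Q p q)
  · left
    refine ((hφ.eq_iff q' _ hq' hq).2 (Or.inr ?_))
    linear_combination (norm := module) em

theorem nonc_nonempty : ∃ z, z ∈ nonc D x := by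
  by_contra hall
  push Not at hall
  obtain ⟨a, ha, b, hb, hab⟩ := S.base.two
  have hz : x ∈ Subgroup.center G := by
    have hg := S.base.grp.2.2
    refine Subgroup.mem_center_iff.2 fun g => ?_
    have hg' : g ∈ Subgroup.closure D := by rw [hg]; exact Subgroup.mem_top g
    induction hg' using Subgroup.closure_induction with
    | mem d hd => exact (not_not.1 fun h => hall d ⟨hd, h⟩).symm.eq
    | one => simp
    | mul u w _ _ hu hw => exact ((show Commute u x from hu).mul_left hw).eq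
    | inv u _ hu => exact ((show Commute u x from hu).inv_left).eq
  rw [S.base.center, Subgroup.mem_bot] at hz
  exact ne_one S.set S.hx hz

/-- Every singular point occurs. -/
theorem attained {u : Fin n → ZMod 3} (hu0 : u ≠ 0) (hu : Q u = 0) :
    ∃ z ∈ nonc D x, Pat Q c ψ z u := by
  have hn := S.le
  obtain ⟨z₀, hz₀⟩ := S.nonc_nonempty
  obtain ⟨u₀, h₀⟩ := S.pat z₀ hz₀
  have step : ∀ {z : G} {w w' : Fin n → ZMod 3}, z ∈ nonc D x → Pat Q c ψ z w → Q w' = 0 →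
      polar ⇑Q w w' ≠ 0 → ∃ z' ∈ nonc D x, Pat Q c ψ z' w' := by
    intro z w w' hz hp hw' hb
    obtain ⟨v, hv, -, he⟩ := rv_exchange S.ch.c_ne hp.2.1 hw' hb
    exact ⟨_, S.conj_nonc (S.psi_mem hv) (S.psi_comm hv) hz, (S.pat_conj hp hv).of_or he⟩
  obtain ⟨w, hw, h1, h2⟩ := exists_sing_nonorth S.ch.nd (by omega) h₀.1 hu0 h₀.2.1 hu
  obtain ⟨z, hz, hp⟩ := step hz₀ h₀ hw h1
  exact step hz hp hu (by rwa [pl_comm])

theorem string_l1 {z : G} (hz : z ∈ nonc D x) {u v : Fin n → ZMod 3} (h : Pat Q c ψ z u)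
    (hv : Q v = c) (hb : polar ⇑Q u v ≠ 0) :
    ¬ Commute z (ψ v * z * ψ v) ∧ Commute z (x * (ψ v * z * ψ v) * x) := by
  have hn : ¬ Commute (ψ v) z := fun e => hb ((h.2.2 v hv).1 e)
  refine ⟨not_commute_conj S.set (S.psi_mem hv) hz.1 hn, ?_⟩
  obtain ⟨φ, h0, h1, h2⟩ := exists_hom_four S.set (S.psi_mem hv) hz.1 S.hx
    (S.psi_comm hv).symm hn (fun e => hz.2 e.symm)
  rw [← h0, ← h1, ← h2, ← map_mul, ← map_mul, ← map_mul, ← map_mul]
  exact (show Commute (Equiv.swap (1 : Fin 4) 2) (Equiv.swap 2 3 *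
    (Equiv.swap 0 1 * Equiv.swap 1 2 * Equiv.swap 0 1) * Equiv.swap 2 3) by
      rw [commute_iff_eq]; decide +kernel).map φ

/-- Exactly one member of a non-orthogonal fibre commutes. -/
theorem l1 {z z' : G} (hz : z ∈ nonc D x) (hz' : z' ∈ nonc D x) {u u' : Fin n → ZMod 3}
    (h : Pat Q c ψ z u) (h' : Pat Q c ψ z' u') (hb : polar ⇑Q u u' ≠ 0) :
    Commute z z' ↔ ¬ Commute z (x * z' * x) := by
  obtain ⟨v, hv, hvu, he⟩ := rv_exchange S.ch.c_ne h.2.1 h'.2.1 hb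
  obtain ⟨k1, k2⟩ := S.string_l1 hz h hv (by rwa [pl_comm])
  have hm := S.conj_nonc (S.psi_mem hv) (S.psi_comm hv) hz
  rcases S.fibre hm hz' ((S.pat_conj h hv).of_or he) h' with e | e <;> rw [e]
  · exact ⟨fun e' => absurd e' k1, fun e' => absurd k2 e'⟩
  · rw [S.xconj_xconj]; exact iff_of_true k2 k1

/-- Commuting members have non-orthogonal points. -/
theorem l0 {z z' : G} (hz : z ∈ nonc D x) (hz' : z' ∈ nonc D x) {u u' : Fin n → ZMod 3}
    (h : Pat Q c ψ z u) (h' : Pat Q c ψ z' u') (hc : Commute z z') (hne : z ≠ z') :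
    polar ⇑Q u u' ≠ 0 := by
  have hD := S.set
  obtain ⟨φ, h0, h1, h2⟩ := exists_hom_four hD hz.1 S.hx hz'.1 hc (fun e => hz.2 e.symm) hz'.2
  set a := z' * (x * z * x) * z' with ha
  have haD : a ∈ D := S.base.conj_mem' hz'.1 (S.base.conj_mem' S.hx hz.1)
  have hax : Commute x a := by
    rw [ha, ← h0, ← h1, ← h2, ← map_mul, ← map_mul, ← map_mul, ← map_mul]
    exact (show Commute (Equiv.swap (1 : Fin 4) 2) (Equiv.swap 2 3 *
      (Equiv.swap 1 2 * Equiv.swap 0 1 * Equiv.swap 1 2) * Equiv.swap 2 3) by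
        rw [commute_iff_eq]; decide +kernel).map φ
  have hconj : a * z * a = x * z' * x := by
    rw [ha, ← h0, ← h1, ← h2]
    simp only [← map_mul]
    exact congrArg φ (by decide +kernel)
  have hne' : a ≠ x := by
    intro e
    rw [e] at hconj
    exact hne (mul_left_cancel (mul_right_cancel hconj))
  obtain ⟨v, hv, hva⟩ := S.ch.surj a ⟨haD, hne', hax⟩
  have hb : polar ⇑Q u v ≠ 0 := fun e => by
    have h3 : Commute a z := hva ▸ (h.2.2 v hv).2 e
    rw [conj_conj_of_commute hD haD h3] at hconj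
    have h4 : z' = x * z * x := by rw [hconj, S.xconj_xconj]
    rw [h4] at hc
    exact not_commute_conj hD S.hx hz.1 hz.2 hc
  have hp := S.pat_conj h hv
  rw [hva, hconj] at hp
  have key : polar ⇑Q u (rv Q c v u) ≠ 0 := by
    rw [rv, pl_sub_right, pl_smul_right, polar_self_sing h.2.1, pl_comm Q v u, zero_sub, neg_ne_zero]
    exact mul_ne_zero (mul_ne_zero (inv_ne_zero S.ch.c_ne) hb) hb
  rcases S.pat_unique (S.pat_xconj h') hp with e | e <;> rw [e] at key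
  · exact key
  · rwa [pl_neg_right, neg_ne_zero] at key

theorem coh_or {z z' : G} (u u' : Fin n → ZMod 3) (hb : polar ⇑Q u u' ≠ 0) :
    Coh Q c z u z' u' ∨ Coh Q c z u z' (-u') := by
  rw [Coh, Coh, pl_neg_right]
  by_cases hcm : Commute z z' <;> rcases f3_two_cases _ _ hb S.ch.c_ne with e | e <;> rw [e] <;>
    simp [hcm, S.ch.c_ne, show ∀ t : ZMod 3, -t = t ↔ t = 0 by decide +kernel]

theorem coh_flip {z z' : G} (hz : z ∈ nonc D x) (hz' : z' ∈ nonc D x) {u u' : Fin n → ZMod 3}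
    (h : Pat Q c ψ z u) (h' : Pat Q c ψ z' u') (hb : polar ⇑Q u u' ≠ 0)
    (hco : Coh Q c z u z' u') : Coh Q c z u (x * z' * x) (-u') := by
  rw [Coh] at hco ⊢
  have := S.l1 hz hz' h h' hb
  rw [pl_neg_right]
  rcases f3_two_cases _ _ hb S.ch.c_ne with e | e <;> rw [e] at hco ⊢
  · refine iff_of_false (this.1 (hco.2 rfl)) fun e' => S.ch.c_ne ?_
    revert e'; generalize c = t; revert t; decide +kernel
  · refine iff_of_true ?_ (neg_neg c)
    by_contra h1
    have h2 := hco.1 (this.2 h1)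
    apply S.ch.c_ne
    revert h2; generalize c = t; revert t; decide +kernel

theorem triangle_main {z₁ z₂ z₃ : G} (h₁ : z₁ ∈ nonc D x) (h₂ : z₂ ∈ nonc D x) (h₃ : z₃ ∈ nonc D x)
    {u₁ u₂ u₃ : Fin n → ZMod 3} (p₁ : Pat Q c ψ z₁ u₁) (p₂ : Pat Q c ψ z₂ u₂) (p₃ : Pat Q c ψ z₃ u₃)
    (b₂ : polar ⇑Q u₁ u₂ = c) (b₃ : polar ⇑Q u₁ u₃ = c) (c₂ : Commute z₁ z₂) (c₃ : Commute z₁ z₃)
    (hb : polar ⇑Q u₂ u₃ ≠ 0) : Coh Q c z₂ u₂ z₃ u₃ := by
  have hc := S.ch.c_ne
  have hv : ∀ {u}, Q u = 0 → polar ⇑Q u₁ u = c → Q (u₁ + u) = c := fun h1 h2 => by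
    rw [Q_add, p₁.2.1, h1, h2, zero_add, zero_add]
  have hzv : ∀ {z u}, z ∈ nonc D x → Pat Q c ψ z u → polar ⇑Q u₁ u = c → Commute z₁ z →
      ψ (u₁ + u) * z₁ * ψ (u₁ + u) = x * z * x := by
    intro z u hz p b cz
    have hq := hv p.2.1 b
    have hp := S.pat_conj p₁ hq
    have e1 : rv Q c (u₁ + u) u₁ = -u := by
      rw [rv, pl_add_left, polar_self_sing p₁.2.1, pl_comm Q u u₁, b, zero_add, inv_mul_cancel₀ hc,
        one_smul]; abel
    rw [e1] at hp
    rcases S.fibre hz (S.conj_nonc (S.psi_mem hq) (S.psi_comm hq) h₁) p (by simpa using hp.neg) with e | e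
    · exfalso
      have hb' : polar ⇑Q u₁ (u₁ + u) ≠ 0 := by
        rw [pl_add_right, polar_self_sing p₁.2.1, b, zero_add]; exact hc
      exact (S.string_l1 h₁ p₁ hq hb').1 (e ▸ cz)
    · exact e
  have e2 := hzv h₂ p₂ b₂ c₂
  have e3 := hzv h₃ p₃ b₃ c₃
  have q2 := hv p₂.2.1 b₂
  have q3 := hv p₃.2.1 b₃
  set a₂ := ψ (u₁ + u₂) with ha₂
  set a₃ := ψ (u₁ + u₃) with ha₃
  have hn2 : ∀ {v}, Q v = c → polar ⇑Q u₁ v = c → ¬ Commute (ψ v) z₁ := fun hv' e h => by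
    rw [(p₁.2.2 _ hv').1 h] at e; exact hc e.symm
  have hu₁ : ∀ {u}, polar ⇑Q u₁ u = c → polar ⇑Q u₁ (u₁ + u) = c := fun e => by
    rw [pl_add_right, polar_self_sing p₁.2.1, e, zero_add]
  rw [Coh]
  rcases f3_two_cases _ _ hb hc with eb | eb <;> rw [eb]
  · refine iff_of_true ?_ rfl
    have hperp : polar ⇑Q (u₁ + u₂) (u₁ + u₃) = 0 := by
      rw [pl_add_left, pl_add_right, pl_add_right, polar_self_sing p₁.2.1, b₃, pl_comm Q u₂ u₁, b₂,
        eb]
      linear_combination c * (by decide : (3 : ZMod 3) = 0)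
    obtain ⟨φ, g0, g1, g2⟩ := exists_hom_four S.set (S.psi_mem q2) h₁.1 (S.psi_mem q3)
      ((S.ch.comm _ _ q2 q3).2 (Or.inl hperp)) (hn2 q2 (hu₁ b₂)) (fun e => hn2 q3 (hu₁ b₃) e.symm)
    rw [← S.commute_xconj, ← e2, ← e3, ha₂, ha₃, ← g0, ← g1, ← g2]
    simp only [← map_mul]
    exact (show Commute (Equiv.swap (0 : Fin 4) 1 * Equiv.swap 1 2 * Equiv.swap 0 1)
      (Equiv.swap 2 3 * Equiv.swap 1 2 * Equiv.swap 2 3) by rw [commute_iff_eq]; decide +kernel).map φ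
  · refine iff_of_false ?_ fun e => hc (by revert e; generalize c = t; revert t; decide +kernel)
    have h' : Commute a₂ z₃ := (p₃.2.2 _ q2).2 (by
      rw [pl_add_right, pl_comm Q u₃ u₁, pl_comm Q u₃ u₂, b₃, eb, add_neg_cancel])
    have h'' : Commute (x * z₂ * x) z₃ := e2 ▸ (h'.mul_left c₃).mul_left h'
    intro hcc
    exact ((S.l1 h₃ h₂ p₃ p₂ (by rwa [pl_comm])).1 hcc.symm) h''.symm

/-- Coherence along a triangle. -/
theorem triangle {z₁ z₂ z₃ : G} (h₁ : z₁ ∈ nonc D x) (h₂ : z₂ ∈ nonc D x) (h₃ : z₃ ∈ nonc D x)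
    {u₁ u₂ u₃ : Fin n → ZMod 3} (p₁ : Pat Q c ψ z₁ u₁) (p₂ : Pat Q c ψ z₂ u₂) (p₃ : Pat Q c ψ z₃ u₃)
    (b₂ : polar ⇑Q u₁ u₂ ≠ 0) (b₃ : polar ⇑Q u₁ u₃ ≠ 0) (k₂ : Coh Q c z₁ u₁ z₂ u₂)
    (k₃ : Coh Q c z₁ u₁ z₃ u₃) (hb : polar ⇑Q u₂ u₃ ≠ 0) : Coh Q c z₂ u₂ z₃ u₃ := by
  have hc := S.ch.c_ne
  have norm : ∀ {z : G} {u}, z ∈ nonc D x → Pat Q c ψ z u → polar ⇑Q u₁ u ≠ 0 →
      Coh Q c z₁ u₁ z u → ∃ z' u', z' ∈ nonc D x ∧ Pat Q c ψ z' u' ∧ polar ⇑Q u₁ u' = c ∧
        Commute z₁ z' ∧ (z = z' ∧ u = u' ∨ z = x * z' * x ∧ u = -u') := by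
    intro z u hz p b k
    rcases f3_two_cases _ _ b hc with e | e
    · exact ⟨z, u, hz, p, e, k.2 e, Or.inl ⟨rfl, rfl⟩⟩
    · have hk := S.coh_flip h₁ hz p₁ p b k
      have e' : polar ⇑Q u₁ (-u) = c := by rw [pl_neg_right, e, neg_neg]
      exact ⟨_, -u, S.xconj_nonc hz, (S.pat_xconj p).neg, e', hk.2 e',
        Or.inr ⟨(S.xconj_xconj z).symm, (neg_neg u).symm⟩⟩
  obtain ⟨y₂, w₂, m₂, q₂, e₂, f₂, r₂⟩ := norm h₂ p₂ b₂ k₂
  obtain ⟨y₃, w₃, m₃, q₃, e₃, f₃, r₃⟩ := norm h₃ p₃ b₃ k₃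
  have hb' : polar ⇑Q w₂ w₃ ≠ 0 := by
    rcases r₂ with ⟨-, rfl⟩ | ⟨-, rfl⟩ <;> rcases r₃ with ⟨-, rfl⟩ | ⟨-, rfl⟩ <;>
      simpa [pl_neg_left, pl_neg_right] using hb
  have main := S.triangle_main h₁ m₂ m₃ p₁ q₂ q₃ e₂ e₃ f₂ f₃ hb'
  have main' : Coh Q c y₂ w₂ z₃ u₃ := by
    rcases r₃ with ⟨rfl, rfl⟩ | ⟨rfl, rfl⟩
    · exact main
    · exact S.coh_flip m₂ m₃ q₂ q₃ hb' main
  rcases r₂ with ⟨rfl, rfl⟩ | ⟨rfl, rfl⟩
  · exact main'
  · exact (S.coh_flip h₃ m₂ p₃ q₂ (by rw [pl_comm]; simpa [pl_neg_left] using hb) main'.symm).symm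

/-- Coherently signed vectors exist. -/
theorem exists_coord : ∃ U, Coord D x Q c ψ U := by
  classical
  have hn := S.le
  obtain ⟨z₀, hz₀⟩ := S.nonc_nonempty
  obtain ⟨u₀, p₀⟩ := S.pat z₀ hz₀
  let Good : G → (Fin n → ZMod 3) → Prop := fun z u => Pat Q c ψ z u ∧
    (polar ⇑Q u₀ u ≠ 0 → Coh Q c z₀ u₀ z u) ∧ ∀ z' u', z' ∈ nonc D x → Pat Q c ψ z' u' →
      polar ⇑Q u₀ u' ≠ 0 → Coh Q c z₀ u₀ z' u' → polar ⇑Q u u' ≠ 0 → Coh Q c z u z' u'
  have sign : ∀ {z z' : G} {u u'}, Pat Q c ψ z' u' → polar ⇑Q u u' ≠ 0 →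
      ∃ s, Pat Q c ψ z' s ∧ polar ⇑Q u s ≠ 0 ∧ Coh Q c z u z' s ∧ (s = u' ∨ s = -u') := by
    intro z z' u u' p b
    rcases S.coh_or u u' b (z := z) (z' := z') with h | h
    · exact ⟨u', p, b, h, Or.inl rfl⟩
    · exact ⟨-u', p.neg, by rwa [pl_neg_right, neg_ne_zero], h, Or.inr rfl⟩
  have exGood : ∀ z ∈ nonc D x, ∃ u, Good z u := by
    intro z hz
    obtain ⟨u, p⟩ := S.pat z hz
    by_cases h0 : polar ⇑Q u₀ u = 0
    · obtain ⟨w, hw, w1, w2⟩ := exists_sing_nonorth S.ch.nd (by omega) p₀.1 p.1 p₀.2.1 p.2.1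
      obtain ⟨y, hy, py⟩ := S.attained (u := w) (fun e => w1 (by rw [e, pl_zero_right])) hw
      obtain ⟨s, ps, bs, ks, hs⟩ := sign (z := z₀) py w1
      have hsu : polar ⇑Q s u ≠ 0 := by
        rcases hs with rfl | rfl
        · rwa [pl_comm]
        · rwa [pl_neg_left, neg_ne_zero, pl_comm]
      obtain ⟨t, pt, bt, kt, ht⟩ := sign (z := y) p hsu
      have h0t : polar ⇑Q u₀ t = 0 := by
        rcases ht with rfl | rfl
        · exact h0
        · rw [pl_neg_right, h0, neg_zero]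
      refine ⟨t, pt, fun h => absurd h0t h, fun z' u' hz' p' b' k' bt' => ?_⟩
      by_cases hsu' : polar ⇑Q s u' = 0
      · obtain ⟨w', hw', v1, v2, v3, v4⟩ := bridge_four S.ch.nd (u := t) (w := s) (w' := u') hn
          p₀.2.1 ps.2.1 h0t hsu' bs (by rwa [pl_comm]) b'
        obtain ⟨y', hy', py'⟩ := S.attained (u := w') (fun e => v1 (by rw [e, pl_zero_right])) hw'
        obtain ⟨r, pr, br, kr, hr⟩ := sign (z := z₀) py' v1
        have tr : ∀ {a : Fin n → ZMod 3}, polar ⇑Q a w' ≠ 0 → polar ⇑Q a r ≠ 0 := fun h => by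
          rcases hr with rfl | rfl
          · exact h
          · rwa [pl_neg_right, neg_ne_zero]
        have k1 := S.triangle hz₀ hy hy' p₀ ps pr bs br ks kr (tr v3)
        have k2 := S.triangle hy hz hy' ps pt pr bt (tr v3) kt k1 (tr v2)
        have k3 := S.triangle hz₀ hy' hz' p₀ pr p' br b' kr k' (by rw [pl_comm]; exact tr v4)
        exact S.triangle hy' hz hz' pr pt p' (by rw [pl_comm]; exact tr v2)
          (by rw [pl_comm]; exact tr v4) k2.symm k3 bt'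
      · exact S.triangle hy hz hz' ps pt p' bt hsu' kt
          (S.triangle hz₀ hy hz' p₀ ps p' bs b' ks k' hsu') bt'
    · obtain ⟨t, pt, bt, kt, -⟩ := sign (z := z₀) p h0
      exact ⟨t, pt, fun _ => kt, fun z' u' hz' p' b' k' bb => S.triangle hz₀ hz hz' p₀ pt p' bt b' kt k' bb⟩
  choose U' hU' using exGood
  let U : G → Fin n → ZMod 3 := fun z => if h : z ∈ nonc D x then U' z h else 0
  have hU : ∀ z, z ∈ nonc D x → Good z (U z) := fun z hz => by simp only [U, dif_pos hz]; exact hU' z hz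
  have hpat : ∀ z ∈ nonc D x, Pat Q c ψ z (U z) := fun z hz => (hU z hz).1
  have hcoh : ∀ z ∈ nonc D x, ∀ z' ∈ nonc D x, polar ⇑Q (U z) (U z') ≠ 0 →
      Coh Q c z (U z) z' (U z') := by
    intro z hz z' hz' b
    obtain ⟨p, k, g⟩ := hU z hz
    obtain ⟨p', k', g'⟩ := hU z' hz'
    by_cases a' : polar ⇑Q u₀ (U z') = 0
    · by_cases a : polar ⇑Q u₀ (U z) = 0
      · obtain ⟨w, hw, w1, w2, w3⟩ := bridge_three S.ch.nd (by omega) p₀.1 p.1 p₀.2.1 p.2.1 a a' b
        obtain ⟨y, hy, py⟩ := S.attained (u := w) (fun e => w1 (by rw [e, pl_zero_right])) hw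
        obtain ⟨r, pr, br, kr, hr⟩ := sign (z := z₀) py w1
        have tr : ∀ {a : Fin n → ZMod 3}, polar ⇑Q a w ≠ 0 → polar ⇑Q a r ≠ 0 := fun h => by
          rcases hr with rfl | rfl
          · exact h
          · rwa [pl_neg_right, neg_ne_zero]
        exact S.triangle hy hz hz' pr p p' (by rw [pl_comm]; exact tr w2)
          (by rw [pl_comm]; exact tr w3) (g y r hy pr br kr (tr w2)).symm
          (g' y r hy pr br kr (tr w3)).symm b
      · exact (g' z (U z) hz p a (k a) (by rwa [pl_comm])).symm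
    · exact g z' (U z') hz' p' a' (k' a') b
  have hx' : ∀ z ∈ nonc D x, U (x * z * x) = -U z := by
    intro z hz
    have hzx := S.xconj_nonc hz
    rcases S.pat_unique (S.pat_xconj (hpat z hz)) (hpat _ hzx) with e | e
    · exfalso
      obtain ⟨w, hw, hw1⟩ := exists_partner S.ch.nd (hpat z hz).1 (hpat z hz).2.1
      obtain ⟨y, hy, py⟩ := S.attained (u := w) (fun e' => by simp [e'] at hw1) hw
      have hne : polar ⇑Q (U z) (U y) ≠ 0 := by
        rcases S.pat_unique py (hpat y hy) with e' | e' <;> rw [e'] <;> simp [hw1]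
      have h1 := hcoh y hy z hz (by rwa [pl_comm])
      have h2 := hcoh y hy _ hzx (by rw [e, pl_comm]; exact hne)
      rw [Coh, e] at h2
      rw [Coh] at h1
      have h3 := S.l1 hy hz (hpat y hy) (hpat z hz) (by rwa [pl_comm])
      rw [h1, h2] at h3
      exact iff_not_self h3
    · exact e
  refine ⟨U, hpat, hcoh, fun z hz z' hz' b hc => ?_, hx', fun z hz z' hz' e => ?_, fun u hu0 hu => ?_⟩
  · by_contra hne
    exact S.l0 hz hz' (hpat z hz) (hpat z' hz') hc hne b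
  · rcases S.fibre hz hz' (hpat z hz) (e ▸ hpat z' hz') with h | h
    · exact h.symm
    · exfalso
      rw [h, hx' z hz] at e
      apply (hpat z hz).1
      funext i
      exact (show ∀ t : ZMod 3, -t = t → t = 0 by decide +kernel) _ (congrFun e i).symm
  · obtain ⟨z, hz, p⟩ := S.attained hu0 hu
    rcases S.pat_unique p (hpat z hz) with e | e
    · exact ⟨z, hz, e⟩
    · exact ⟨_, S.xconj_nonc hz, by rw [hx' z hz, e, neg_neg]⟩

end Setup

end Cfsg.Agent.FischerMain.O3
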