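/-
Singular vectors and vectors of given norm in an orthogonal space over three elements (owner: helper28).

Main results (namespace `Cfsg.Agent.FischerMain.O3`):
* `rv` calculus : `rv_eq_ap`, `rv_polar`, `rv_swap`
* `sing_eq_of_pattern` : a singular point is determined by the points of norm `c` orthogonal to it
* `exists_norm_orth`, `exists_norm_nonorth`, `rv_exchange`
* `exists_sing_nonorth`, `bridge_three`, `bridge_four` : auxiliary singular points
-/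
import Cfsg.Agent.Lib.FischerMain.Defs
import Cfsg.Agent.Lib.Orth.Spinor

set_option autoImplicit false
set_option linter.unusedSectionVars false

namespace Cfsg.Agent.FischerMain.O3

open Cfsg Cfsg.Agent.Orth Module
open QuadraticMap (polar)

theorem f3_sq : ∀ t : ZMod 3, t ≠ 0 → t * t = 1 := by decide +kernel

theorem f3_inv : ∀ t : ZMod 3, t⁻¹ = t := by decide +kernel

theorem f3_two (t : ZMod 3) : 2 * t = -t := by revert t; decide +kernel

theorem f3_cases : ∀ t : ZMod 3, t = 0 ∨ t = 1 ∨ t = -1 := by decide +kernel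

theorem f3_two_cases : ∀ t c : ZMod 3, t ≠ 0 → c ≠ 0 → t = c ∨ t = -c := by decide +kernel

variable {n : ℕ} {Q : QuadraticForm (ZMod 3) (Fin n → ZMod 3)} {c : ZMod 3}

theorem rv_eq_ap {u : Fin n → ZMod 3} (hu : Q u = c) (v : Fin n → ZMod 3) :
    rv Q c u v = ap (refl Q u) v := by
  rw [refl_ap, hu]; rfl

theorem rv_polar {u : Fin n → ZMod 3} (hu : Q u = c) (x y : Fin n → ZMod 3) :
    polar ⇑Q (rv Q c u x) (rv Q c u y) = polar ⇑Q x y := by
  rw [rv_eq_ap hu, rv_eq_ap hu, polar_ap]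

theorem rv_Q {u : Fin n → ZMod 3} (hu : Q u = c) (x : Fin n → ZMod 3) : Q (rv Q c u x) = Q x := by
  rw [rv_eq_ap hu, Q_ap]

theorem rv_rv {u : Fin n → ZMod 3} (hu : Q u = c) (x : Fin n → ZMod 3) :
    rv Q c u (rv Q c u x) = x := by
  rw [rv_eq_ap hu, rv_eq_ap hu, refl_ap_ap]

theorem rv_polar_right {u : Fin n → ZMod 3} (hu : Q u = c) (x y : Fin n → ZMod 3) :
    polar ⇑Q x (rv Q c u y) = polar ⇑Q (rv Q c u x) y := by
  conv_rhs => rw [← rv_rv hu y, rv_polar hu]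

theorem rv_of_orth {u v : Fin n → ZMod 3} (h : polar ⇑Q u v = 0) : rv Q c u v = v := by
  simp [rv, h]

theorem rv_self {u : Fin n → ZMod 3} (hc : c ≠ 0) (hu : Q u = c) : rv Q c u u = -u := by
  rw [rv_eq_ap hu, refl_ap_self Q (hu ▸ hc)]

theorem rv_neg (u v : Fin n → ZMod 3) : rv Q c (-u) v = rv Q c u v := by
  rw [rv, rv, pl_neg_left]; module

theorem rv_smul (u v : Fin n → ZMod 3) (a : ZMod 3) : rv Q c u (a • v) = a • rv Q c u v := by
  rw [rv, rv, pl_smul_right]; module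

theorem rv_swap (hc : c ≠ 0) {u v : Fin n → ZMod 3} (h : polar ⇑Q u v ≠ 0) :
    rv Q c u v = rv Q c v u ∨ rv Q c u v = -rv Q c v u := by
  simp only [rv, pl_comm Q v u]
  have ht : (c⁻¹ * polar ⇑Q u v) ≠ 0 := mul_ne_zero (inv_ne_zero hc) h
  rcases f3_cases (c⁻¹ * polar ⇑Q u v) with e | e | e
  · exact absurd e ht
  · rw [e]; right; simp
  · rw [e]; left; simp [add_comm]

theorem Q_neg (u : Fin n → ZMod 3) : Q (-u) = Q u := QuadraticMap.map_neg Q u

theorem ne_zero_of_norm (hc : c ≠ 0) {v : Fin n → ZMod 3} (hv : Q v = c) : v ≠ 0 := fun e =>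
  hc (by rw [← hv, e, QuadraticMap.map_zero])

theorem polar_self_norm {v : Fin n → ZMod 3} (hv : Q v = c) : polar ⇑Q v v = -c := by
  rw [pl_self, hv, f3_two]

theorem polar_self_sing {v : Fin n → ZMod 3} (hv : Q v = 0) : polar ⇑Q v v = 0 := by
  rw [pl_self, hv, mul_zero]

/-- Vectors of any norm in a subspace orthogonal to a hyperbolic pair. -/
theorem rep_in (W : Submodule (ZMod 3) (Fin n → ZMod 3))
    (hW : ∀ x ∈ W, x ≠ 0 → ∃ y ∈ W, polar ⇑Q x y ≠ 0) (h4 : 4 ≤ finrank (ZMod 3) W)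
    {u u' : Fin n → ZMod 3} (hu : u ∈ W) (hu' : u' ∈ W) (hQu : Q u = 0) (hQu' : Q u' = 0)
    (hb : polar ⇑Q u u' ≠ 0) (e : ZMod 3) :
    ∃ y ∈ W, polar ⇑Q u y = 0 ∧ polar ⇑Q u' y = 0 ∧ Q y = e := by
  set b := polar ⇑Q u u' with hbdef
  obtain ⟨y, ⟨hyW, hy⟩, hQy⟩ := exists_Q_eq_in (Q := Q) (W ⊓ orthFam Q ![u, u']) (fun z hz hz0 => by
    obtain ⟨hzW, hz⟩ := hz
    have hzu : polar ⇑Q u z = 0 := mem_orthFam.1 hz 0
    have hzu' : polar ⇑Q u' z = 0 := mem_orthFam.1 hz 1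
    obtain ⟨y, hy, hzy⟩ := hW z hzW hz0
    refine ⟨y - (b⁻¹ * polar ⇑Q u' y) • u - (b⁻¹ * polar ⇑Q u y) • u',
      ⟨W.sub_mem (W.sub_mem hy (W.smul_mem _ hu)) (W.smul_mem _ hu'), mem_orthFam.2 fun i => ?_⟩, ?_⟩
    · fin_cases i
      · simp [polar_self_sing hQu, ← hbdef]
        field_simp; ring
      · simp [polar_self_sing hQu', pl_comm Q u' u, ← hbdef]
        field_simp; ring
    · simpa [pl_sub_right, pl_smul_right, pl_comm Q z u, pl_comm Q z u', hzu, hzu'] using hzy) (by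
    have h1 := Submodule.finrank_sup_add_finrank_inf_eq W (orthFam Q ![u, u'])
    have h2 := card_le_finrank_orthFam (Q := Q) ![u, u']
    have h3 := Submodule.finrank_le (W ⊔ orthFam Q ![u, u'])
    rw [finrank_space] at h3
    omega) e
  exact ⟨y, hyW, mem_orthFam.1 hy 0, mem_orthFam.1 hy 1, hQy⟩

/-- A singular point is determined by the points of norm `c` orthogonal to it. -/
theorem sing_eq_of_pattern (W : Submodule (ZMod 3) (Fin n → ZMod 3))
    (hW : ∀ x ∈ W, x ≠ 0 → ∃ y ∈ W, polar ⇑Q x y ≠ 0) (h4 : 4 ≤ finrank (ZMod 3) W)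
    {u u' : Fin n → ZMod 3} (hu : u ∈ W) (hu' : u' ∈ W) (hu0 : u ≠ 0) (hu0' : u' ≠ 0)
    (hQu : Q u = 0) (hQu' : Q u' = 0)
    (h : ∀ v ∈ W, Q v = c → (polar ⇑Q u v = 0 ↔ polar ⇑Q u' v = 0)) : u' = u ∨ u' = -u := by
  by_cases hdep : ∃ a : ZMod 3, u' = a • u
  · obtain ⟨a, rfl⟩ := hdep
    rcases f3_cases a with rfl | rfl | rfl
    · exact absurd (zero_smul _ u) hu0'
    · exact Or.inl (one_smul _ u)
    · exact Or.inr (by rw [neg_smul, one_smul])
  exfalso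
  by_cases hb : polar ⇑Q u u' = 0
  · obtain ⟨a, ha, hua⟩ := hW u hu hu0
    set s := (polar ⇑Q u a)⁻¹ * polar ⇑Q u' a with hs
    obtain ⟨y, hy, hzy⟩ := hW (u' - s • u) (W.sub_mem hu' (W.smul_mem _ hu))
      (fun e => hdep ⟨s, sub_eq_zero.1 e⟩)
    set w := y - ((polar ⇑Q u a)⁻¹ * polar ⇑Q u y) • a with hw
    have hwW : w ∈ W := W.sub_mem hy (W.smul_mem _ ha)
    have h1 : polar ⇑Q u w = 0 := by
      rw [hw, pl_sub_right, pl_smul_right]; field_simp; ring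
    have h2 : polar ⇑Q u' w ≠ 0 := by
      rw [hw, pl_sub_right, pl_smul_right]
      rw [pl_sub_left, pl_smul_left, hs] at hzy
      convert hzy using 2
      ring
    set t := (c - Q w) * (polar ⇑Q u' w)⁻¹ with ht
    have h3 := h (w + t • u') (W.add_mem hwW (W.smul_mem _ hu')) (by
      rw [Q_add, Q_smul, hQu', pl_smul_right, pl_comm Q w u', ht]; field_simp; ring)
    rw [pl_add_right, pl_smul_right, h1, hb, pl_add_right, pl_smul_right, polar_self_sing hQu'] at h3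
    exact h2 (by simpa using h3.1 (by ring))
  · obtain ⟨y, hy, h1, h2, h3⟩ := rep_in W hW h4 hu hu' hQu hQu' hb c
    have h4' := h (u + y) (W.add_mem hu hy) (by
      rw [Q_add, hQu, h3, h1, add_zero, zero_add])
    rw [pl_add_right, pl_add_right, h1, h2, polar_self_sing hQu, add_zero, add_zero] at h4'
    exact hb (by rw [pl_comm]; exact h4'.1 rfl)

section whole

variable (hQ : Q.polarBilin.Nondegenerate)
include hQ

theorem top_nd : ∀ x ∈ (⊤ : Submodule (ZMod 3) (Fin n → ZMod 3)), x ≠ 0 →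
    ∃ y ∈ (⊤ : Submodule (ZMod 3) (Fin n → ZMod 3)), polar ⇑Q x y ≠ 0 :=
  fun x _ hx => by simpa using exists_polar_ne hQ hx

theorem exists_partner {u : Fin n → ZMod 3} (hu0 : u ≠ 0) (hu : Q u = 0) :
    ∃ w, Q w = 0 ∧ polar ⇑Q u w = 1 := by
  obtain ⟨y, hy⟩ := exists_polar_ne hQ hu0
  obtain ⟨w, h1⟩ : ∃ w, polar ⇑Q u w = 1 :=
    ⟨(polar ⇑Q u y)⁻¹ • y, by rw [pl_smul_right, inv_mul_cancel₀ hy]⟩
  refine ⟨w - Q w • u, ?_, ?_⟩
  · rw [Q_sub, Q_smul, pl_smul_right, pl_comm Q w u, h1, hu]; ring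
  · rw [pl_sub_right, pl_smul_right, h1, polar_self_sing hu, mul_zero, sub_zero]

theorem exists_norm_orth (hn : 4 ≤ n) {u : Fin n → ZMod 3} (hu0 : u ≠ 0) (hu : Q u = 0) :
    ∃ v, Q v = c ∧ polar ⇑Q u v = 0 := by
  obtain ⟨w, hw, huw⟩ := exists_partner hQ hu0 hu
  obtain ⟨v, -, h1, -, h3⟩ := rep_in ⊤ (top_nd hQ) (by rw [finrank_top, finrank_space]; simpa)
    Submodule.mem_top Submodule.mem_top hu hw (by rw [huw]; decide) c
  exact ⟨v, h3, h1⟩

theorem exists_norm_nonorth {u : Fin n → ZMod 3} (hu0 : u ≠ 0) (hu : Q u = 0) :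
    ∃ v, Q v = c ∧ polar ⇑Q u v ≠ 0 := by
  obtain ⟨w, hw, huw⟩ := exists_partner hQ hu0 hu
  refine ⟨w + c • u, ?_, ?_⟩
  · rw [Q_add, Q_smul, hu, hw, pl_smul_right, pl_comm Q w u, huw]; ring
  · rw [pl_add_right, pl_smul_right, huw, polar_self_sing hu]; simp

theorem eq_of_pattern (hn : 4 ≤ n) {u u' : Fin n → ZMod 3} (hu0 : u ≠ 0) (hu0' : u' ≠ 0)
    (hQu : Q u = 0) (hQu' : Q u' = 0)
    (h : ∀ v, Q v = c → (polar ⇑Q u v = 0 ↔ polar ⇑Q u' v = 0)) : u' = u ∨ u' = -u :=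
  sing_eq_of_pattern ⊤ (top_nd hQ) (by rw [finrank_top, finrank_space]; simpa)
    Submodule.mem_top Submodule.mem_top hu0 hu0' hQu hQu' fun v _ => h v

/-- Two singular points have a common non-orthogonal one. -/
theorem exists_sing_nonorth (hn : 4 ≤ n) {u u' : Fin n → ZMod 3} (hu0 : u ≠ 0) (hu0' : u' ≠ 0)
    (hu : Q u = 0) (hu' : Q u' = 0) :
    ∃ w, Q w = 0 ∧ polar ⇑Q u w ≠ 0 ∧ polar ⇑Q u' w ≠ 0 := by
  by_cases hb : polar ⇑Q u u' = 0
  · obtain ⟨p, -, hp⟩ := exists_partner hQ hu0 hu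
    obtain ⟨q, -, hq⟩ := exists_partner hQ hu0' hu'
    obtain ⟨a, ha, ha'⟩ : ∃ a, polar ⇑Q u a ≠ 0 ∧ polar ⇑Q u' a ≠ 0 := by
      by_cases h1 : polar ⇑Q u' p = 0
      · by_cases h2 : polar ⇑Q u q = 0
        · exact ⟨p + q, by rw [pl_add_right, hp, h2]; decide, by rw [pl_add_right, hq, h1]; decide⟩
        · exact ⟨q, h2, by rw [hq]; decide⟩
      · exact ⟨p, by rw [hp]; decide, h1⟩
    refine ⟨a - (Q a * (polar ⇑Q u a)⁻¹) • u, ?_, ?_, ?_⟩
    · rw [Q_sub, Q_smul, hu, pl_smul_right, pl_comm Q a u]; field_simp; ring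
    · rwa [pl_sub_right, pl_smul_right, polar_self_sing hu, mul_zero, sub_zero]
    · rwa [pl_sub_right, pl_smul_right, pl_comm Q u' u, hb, mul_zero, sub_zero]
  · obtain ⟨y, -, h1, h2, h3⟩ := rep_in ⊤ (top_nd hQ) (by rw [finrank_top, finrank_space]; simpa)
      Submodule.mem_top Submodule.mem_top hu hu' hb (-polar ⇑Q u u')
    refine ⟨u + u' + y, ?_, ?_, ?_⟩
    · rw [Q_add, Q_add, hu, hu', h3, pl_add_left, h1, h2]; ring
    · rw [pl_add_right, pl_add_right, polar_self_sing hu, h1]; simpa using hb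
    · rw [pl_add_right, pl_add_right, polar_self_sing hu', h2, pl_comm Q u' u]; simpa using hb

/-- A singular point not orthogonal to `u₀` and to a non-orthogonal pair orthogonal to it. -/
theorem bridge_three (hn : 4 ≤ n) {u₀ u u' : Fin n → ZMod 3} (h₀ : u₀ ≠ 0) (hu0 : u ≠ 0)
    (hQ₀ : Q u₀ = 0) (hu : Q u = 0) (h₀u : polar ⇑Q u₀ u = 0)
    (h₀u' : polar ⇑Q u₀ u' = 0) (hb : polar ⇑Q u u' ≠ 0) :
    ∃ w, Q w = 0 ∧ polar ⇑Q u₀ w ≠ 0 ∧ polar ⇑Q u w ≠ 0 ∧ polar ⇑Q u' w ≠ 0 := by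
  obtain ⟨w, hw, h1, h2⟩ := exists_sing_nonorth hQ hn h₀ hu0 hQ₀ hu
  by_cases h3 : polar ⇑Q u' w = 0
  swap; · exact ⟨w, hw, h1, h2, h3⟩
  set k := polar ⇑Q u w * (polar ⇑Q u₀ w)⁻¹ with hk
  refine ⟨w + u - k • u₀, ?_, ?_, ?_, ?_⟩
  · rw [Q_sub, Q_add, Q_smul, hQ₀, hu, hw, pl_smul_right, pl_add_left, pl_comm Q w u₀,
      pl_comm Q u u₀, h₀u, pl_comm Q w u, hk]
    field_simp; ring
  · rwa [pl_sub_right, pl_add_right, pl_smul_right, h₀u, polar_self_sing hQ₀, mul_zero, sub_zero,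
      add_zero]
  · rwa [pl_sub_right, pl_add_right, pl_smul_right, polar_self_sing hu, pl_comm Q u u₀, h₀u,
      mul_zero, sub_zero, add_zero]
  · rwa [pl_sub_right, pl_add_right, pl_smul_right, h3, pl_comm Q u' u₀, h₀u', mul_zero, sub_zero,
      zero_add, pl_comm Q u' u]

/-- The points not orthogonal to an orthogonal pair are connected by steps of non-orthogonality. -/
theorem bridge_four (hn : 5 ≤ n) {u₀ u w w' : Fin n → ZMod 3} (hQ₀ : Q u₀ = 0)
    (hw : Q w = 0) (h₀u : polar ⇑Q u₀ u = 0) (hww : polar ⇑Q w w' = 0)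
    (h1 : polar ⇑Q u₀ w ≠ 0) (h2 : polar ⇑Q u w ≠ 0) (h3 : polar ⇑Q u₀ w' ≠ 0) :
    ∃ z, Q z = 0 ∧ polar ⇑Q u₀ z ≠ 0 ∧ polar ⇑Q u z ≠ 0 ∧ polar ⇑Q w z ≠ 0 ∧ polar ⇑Q w' z ≠ 0 := by
  set a := polar ⇑Q u₀ w with ha
  set K := orthFam Q ![u₀, w, u] with hK
  obtain ⟨f, hf, hQf⟩ : ∃ f ∈ K, Q f ≠ 0 := by
    by_contra! hall
    have hiso : ∀ x ∈ K, ∀ y ∈ K, polar ⇑Q x y = 0 := fun x hx y hy => by
      simp [polar, hall _ (K.add_mem hx hy), hall _ hx, hall _ hy]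
    set L := Submodule.span (ZMod 3) ({u₀} : Set (Fin n → ZMod 3)) with hL
    have hle := two_mul_finrank_le_of_isotropic hQ (K ⊔ L) (by
      intro x hx y hy
      obtain ⟨x1, hx1, x2, hx2, rfl⟩ := Submodule.mem_sup.1 hx
      obtain ⟨y1, hy1, y2, hy2, rfl⟩ := Submodule.mem_sup.1 hy
      obtain ⟨s, rfl⟩ := Submodule.mem_span_singleton.1 hx2
      obtain ⟨r, rfl⟩ := Submodule.mem_span_singleton.1 hy2
      have e1 : polar ⇑Q u₀ x1 = 0 := mem_orthFam.1 hx1 0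
      have e2 : polar ⇑Q u₀ y1 = 0 := mem_orthFam.1 hy1 0
      simp [hiso x1 hx1 y1 hy1,
        pl_comm Q x1 u₀, e1, e2, polar_self_sing hQ₀])
    have hinf : K ⊓ L = ⊥ := by
      refine eq_bot_iff.2 fun x hx => ?_
      obtain ⟨s, rfl⟩ := Submodule.mem_span_singleton.1 hx.2
      have e : polar ⇑Q w (s • u₀) = 0 := mem_orthFam.1 hx.1 1
      rw [pl_smul_right, pl_comm Q w u₀, ← ha] at e
      rcases mul_eq_zero.1 e with e | e
      · simp [e]
      · exact absurd e h1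
    have h5 := Submodule.finrank_sup_add_finrank_inf_eq K L
    have hL1 : finrank (ZMod 3) ↥L = 1 := by
      rw [hL]; exact finrank_span_singleton (by rintro rfl; exact h1 (pl_zero_left Q w))
    rw [hinf, finrank_bot, hL1] at h5
    have h6 := card_le_finrank_orthFam (Q := Q) ![u₀, w, u]
    rw [Fintype.card_fin] at h6 hle
    rw [← hK] at h6
    omega
  have e0 : polar ⇑Q u₀ f = 0 := mem_orthFam.1 hf 0
  have e1 : polar ⇑Q w f = 0 := mem_orthFam.1 hf 1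
  have e2 : polar ⇑Q u f = 0 := mem_orthFam.1 hf 2
  have key : ∀ g : Fin n → ZMod 3, Q g = Q f → polar ⇑Q u₀ g = 0 → polar ⇑Q w g = 0 →
      polar ⇑Q u g = 0 → polar ⇑Q w' g ≠ Q f * a * polar ⇑Q u₀ w' →
      ∃ z, Q z = 0 ∧ polar ⇑Q u₀ z ≠ 0 ∧ polar ⇑Q u z ≠ 0 ∧ polar ⇑Q w z ≠ 0 ∧
        polar ⇑Q w' z ≠ 0 := by
    intro g hg g0 g1 g2 g3
    refine ⟨w + g - (Q f * a) • u₀, ?_, ?_, ?_, ?_, ?_⟩
    · rw [Q_sub, Q_add, Q_smul, hQ₀, hw, hg, g1, pl_smul_right, pl_add_left, pl_comm Q w u₀,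
        pl_comm Q g u₀, g0, ← ha]
      have := f3_sq a h1
      linear_combination (-Q f) * this
    · rwa [pl_sub_right, pl_add_right, pl_smul_right, g0, polar_self_sing hQ₀, mul_zero, sub_zero,
        add_zero]
    · rwa [pl_sub_right, pl_add_right, pl_smul_right, g2, pl_comm Q u u₀, h₀u, mul_zero, sub_zero,
        add_zero]
    · rw [pl_sub_right, pl_add_right, pl_smul_right, g1, polar_self_sing hw, pl_comm Q w u₀, ← ha,
        mul_assoc, f3_sq a h1]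
      simpa using hQf
    · rw [pl_sub_right, pl_add_right, pl_smul_right, pl_comm Q w' w, hww, pl_comm Q w' u₀, zero_add,
        sub_ne_zero]
      exact g3
  by_cases h : polar ⇑Q w' f = Q f * a * polar ⇑Q u₀ w'
  · refine key (-f) (Q_neg f) ?_ ?_ ?_ ?_
    · rw [pl_neg_right, e0, neg_zero]
    · rw [pl_neg_right, e1, neg_zero]
    · rw [pl_neg_right, e2, neg_zero]
    · rw [pl_neg_right, h]
      have hne : Q f * a * polar ⇑Q u₀ w' ≠ 0 := mul_ne_zero (mul_ne_zero hQf h1) h3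
      intro e
      apply hne
      revert e
      generalize Q f * a * polar ⇑Q u₀ w' = t
      revert t; decide +kernel
  · exact key f rfl e0 e1 e2 h

end whole

/-- A vector of norm `c` exchanging two non-orthogonal singular points. -/
theorem rv_exchange (hc : c ≠ 0) {u u' : Fin n → ZMod 3} (hu : Q u = 0) (hu' : Q u' = 0)
    (hb : polar ⇑Q u u' ≠ 0) :
    ∃ v, Q v = c ∧ polar ⇑Q v u ≠ 0 ∧ (rv Q c v u = u' ∨ rv Q c v u = -u') := by
  have hb2 := f3_sq _ hb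
  set s := c * polar ⇑Q u u' with hs
  have h1 : Q (u + s • u') = c := by
    rw [Q_add, Q_smul, hu, hu', pl_smul_right, hs]
    linear_combination c * hb2
  have h2 : polar ⇑Q (u + s • u') u = c := by
    rw [pl_add_left, pl_smul_left, polar_self_sing hu, pl_comm Q u' u, hs]
    linear_combination c * hb2
  refine ⟨_, h1, by rw [h2]; exact hc, ?_⟩
  rw [rv, h2, inv_mul_cancel₀ hc, one_smul, sub_add_cancel_left]
  rcases f3_cases s with e | e | e
  · exact absurd e (mul_ne_zero hc hb)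
  · right; rw [e, one_smul]
  · left; rw [e, neg_smul, one_smul, neg_neg]

end Cfsg.Agent.FischerMain.O3
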