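/-
Orthogonal charts and the reflection groups over three elements (owner: helper28).

Main results (namespace `Cfsg.Agent.FischerMain`):
* `Chart3.o3Kind` : a class with an orthogonal chart is a class of reflections modulo the centre
* `O3Kind.exists_chart` : the converse
-/
import Cfsg.Agent.Lib.FischerMain.O3.Vectors
import Cfsg.Agent.Lib.ThreeTrans.ReflThree

set_option autoImplicit false
set_option linter.unusedSectionVars false

namespace Cfsg.Agent.FischerMain

open Cfsg Cfsg.Agent.ThreeTransRank Cfsg.Agent.ThreeTrans Cfsg.Agent.Orth O3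
open QuadraticMap (polar)

variable {G : Type*} [Group G] {D : Set G} {n : ℕ} {Q : QuadraticForm (ZMod 3) (Fin n → ZMod 3)}
  {c : ZMod 3}

/-- Two reflections of norm `c` are equal only for proportional vectors. -/
theorem eq_or_neg_of_refl_eq (hc : c ≠ 0) {u v : Fin n → ZMod 3} (hu : Q u = c) (hv : Q v = c)
    (h : refl Q u = refl Q v) : v = u ∨ v = -u := by
  have h1 := refl_ap_self Q (show Q v ≠ 0 from hv ▸ hc)
  rw [← h, ← rv_eq_ap hu, rv] at h1
  set t := c⁻¹ * polar ⇑Q u v
  have e : v = (-t) • u := by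
    have three : ((3 : ZMod 3)) • v = 0 := by
      rw [show (3 : ZMod 3) = 0 from rfl, zero_smul]
    linear_combination (norm := module) (-1 : ZMod 3) • h1 + three
  rcases f3_cases (-t) with e' | e' | e' <;> rw [e'] at e
  · exact absurd (by simpa using e) (ne_zero_of_norm hc hv)
  · exact Or.inl (by simpa using e)
  · exact Or.inr (by simpa using e)

/-- An orthogonal chart of the whole class. -/
theorem Chart3.o3Kind [Finite G] {ψ : (Fin n → ZMod 3) → G} (h : Base D) (hn : 5 ≤ n)
    (hch : Chart3 D Q c ψ) : O3Kind G D := by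
  classical
  have hD := h.set
  have hn' : 5 ≤ Fintype.card (Fin n) := by rw [Fintype.card_fin]; exact hn
  let R := reflectionSubgroup (⇑Q) c
  let P : G → IsoGrp Q → Prop := fun g r => ∀ v, Q v = c → g * ψ v * g⁻¹ = ψ (ap r v)
  have cen : ∀ g : G, (∀ v, Q v = c → g * ψ v * g⁻¹ = ψ v) → g = 1 := by
    intro g hg
    have hz : g ∈ Subgroup.center G := commute_all_of_gen h.grp.2.2 fun d hd => by
      obtain ⟨v, hv, rfl⟩ := hch.surj d hd
      have e := hg v hv
      rw [mul_inv_eq_iff_eq_mul] at e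
      exact e.symm
    rwa [h.center, Subgroup.mem_bot] at hz
  have uniq : ∀ {g g' : G} {r : IsoGrp Q}, P g r → P g' r → g = g' := by
    intro g g' r hg hg'
    refine inv_mul_eq_one.1 (cen (g⁻¹ * g') fun v hv => ?_)
    rw [show g⁻¹ * g' * ψ v * (g⁻¹ * g')⁻¹ = g⁻¹ * (g' * ψ v * g'⁻¹) * g by group, hg' v hv,
      ← hg v hv]
    group
  have one : P 1 1 := fun v _ => by simp
  have mul : ∀ {g g' : G} {r r' : IsoGrp Q}, P g r → P g' r' → P (g * g') (r * r') := by
    intro g g' r r' hg hg' v hv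
    rw [ap_mul, ← hg _ ((Q_ap r' v).trans hv), ← hg' v hv]
    group
  have gen : ∀ u, Q u = c → P (ψ u) (refl Q u) := fun u hu v hv => by
    rw [inv_eq hD (hch.mem u hu), hch.conj u v hu hv, rv_eq_ap hu]
  have ex : ∀ r ∈ R, ∃ g, P g r := by
    intro r hr
    induction hr using Subgroup.closure_induction with
    | mem r hr =>
      rw [reflectionsOfNorm_eq] at hr
      obtain ⟨u, hu, rfl⟩ := hr
      exact ⟨_, gen u hu⟩
    | one => exact ⟨1, one⟩
    | mul a b _ _ ha hb =>
      obtain ⟨g, hg⟩ := ha; obtain ⟨g', hg'⟩ := hb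
      exact ⟨_, mul hg hg'⟩
    | inv a _ ha =>
      obtain ⟨g, hg⟩ := ha
      refine ⟨g⁻¹, fun v hv => ?_⟩
      have e := hg (ap a⁻¹ v) ((Q_ap a⁻¹ v).trans hv)
      rw [ap_ap_inv] at e
      rw [← e]; group
  choose f₀ hf₀ using ex
  let f : ↥R →* G := MonoidHom.mk' (fun r => f₀ r r.2) fun a b =>
    uniq (hf₀ _ (a * b).2) (mul (hf₀ _ a.2) (hf₀ _ b.2))
  have hf : ∀ r : ↥R, P (f r) r := fun r => hf₀ _ r.2
  have hfu : ∀ u (hu : Q u = c), f ⟨refl Q u, refl_mem_reflSub hu⟩ = ψ u := fun u hu =>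
    uniq (hf _) (gen u hu)
  have hsurj : Function.Surjective f := by
    rw [← MonoidHom.range_eq_top]
    refine eq_top_iff.2 (h.grp.2.2.ge.trans ((Subgroup.closure_le _).2 fun d hd => ?_))
    obtain ⟨v, hv, rfl⟩ := hch.surj d hd
    exact ⟨_, hfu v hv⟩
  have hker : f.ker = Subgroup.center ↥R := by
    refine le_antisymm (fun r hr => ?_) (fun r hr => ?_)
    · rw [MonoidHom.mem_ker] at hr
      have hgen : Subgroup.closure (reflSet Q c) = ⊤ := Subgroup.closure_closure_coe_preimage
      refine commute_all_of_gen hgen fun d hd => ?_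
      change (d : IsoGrp Q) ∈ reflectionsOfNorm (⇑Q) c at hd
      rw [reflectionsOfNorm_eq] at hd
      obtain ⟨v, hv, hd⟩ := hd
      have hq : Q (ap (r : IsoGrp Q) v) = c := (Q_ap _ v).trans hv
      have e := hf r v hv
      rw [hr, one_mul, inv_one, mul_one, hch.eq_iff _ _ hv hq] at e
      have e' : refl Q (ap (r : IsoGrp Q) v) = refl Q v := by
        rcases e with e | e <;> rw [e]
        rw [← neg_one_smul (ZMod 3) v, refl_smul Q (by decide)]
      have e2 := mul_refl (r : IsoGrp Q) v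
      rw [e', hd] at e2
      exact Subtype.ext e2.symm
    · rw [MonoidHom.mem_ker]
      have : f r ∈ Subgroup.center G := Subgroup.mem_center_iff.2 fun g => by
        obtain ⟨s, rfl⟩ := hsurj g
        rw [← map_mul, ← map_mul, Subgroup.mem_center_iff.1 hr s]
      rwa [h.center, Subgroup.mem_bot] at this
  let e : G ≃* ↥R ⧸ Subgroup.center ↥R :=
    (QuotientGroup.quotientKerEquivOfSurjective f hsurj).symm.trans
      (QuotientGroup.quotientMulEquivOfEq hker)
  have he : ∀ r : ↥R, e (f r) = QuotientGroup.mk r := fun r => by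
    have h1 : (QuotientGroup.quotientKerEquivOfSurjective f hsurj).symm (f r) =
        QuotientGroup.mk r := by
      rw [MulEquiv.symm_apply_eq]
      rfl
    simp only [e, MulEquiv.trans_apply, h1]
    rfl
  refine ⟨n, hn, Q, hch.nd, c, hch.c_ne, e, ?_⟩
  ext q
  constructor
  · rintro ⟨d, hd, rfl⟩
    obtain ⟨v, hv, rfl⟩ := hch.surj d hd
    exact ⟨⟨refl Q v, refl_mem_reflSub hv⟩, refl_mem_norm hv, by rw [← hfu v hv, he]⟩
  · rintro ⟨r, hr, rfl⟩
    change (r : IsoGrp Q) ∈ reflectionsOfNorm (⇑Q) c at hr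
    rw [reflectionsOfNorm_eq] at hr
    obtain ⟨v, hv, hr⟩ := hr
    refine ⟨ψ v, hch.mem v hv, ?_⟩
    rw [← hfu v hv, he]
    exact congrArg _ (Subtype.ext hr)

/-- The classes of reflections have orthogonal charts. -/
theorem O3Kind.exists_chart [Finite G] (h : O3Kind G D) :
    ∃ n : ℕ, 5 ≤ n ∧ ∃ (Q : QuadraticForm (ZMod 3) (Fin n → ZMod 3)) (c : ZMod 3)
      (ψ : (Fin n → ZMod 3) → G), Chart3 D Q c ψ := by
  classical
  obtain ⟨n, hn, Q, hQ, c, hc, e, he⟩ := h
  have hn' : 5 ≤ Fintype.card (Fin n) := by rw [Fintype.card_fin]; exact hn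
  let R := reflectionSubgroup (⇑Q) c
  have hR : IsThreeTranspositionClass (reflSet Q c) := reflClass_threeTrans hQ hn' hc
  have h2 : ∃ a ∈ reflSet Q c, ∃ b ∈ reflSet Q c, a ≠ b := by
    obtain ⟨u, v, hu, hv, -, hne⟩ := exists_two_refl hQ (by omega) hc
    exact ⟨⟨_, refl_mem_reflSub hu⟩, refl_mem_norm hu,
      ⟨_, refl_mem_reflSub hv⟩, refl_mem_norm hv, fun h => hne (congrArg Subtype.val h)⟩
  let P : ∀ v, Q v = c → ↥R := fun v hv => ⟨refl Q v, refl_mem_reflSub hv⟩
  let ψ : (Fin n → ZMod 3) → G := fun v =>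
    if hv : Q v = c then e.symm (QuotientGroup.mk (P v hv)) else 1
  have hψ : ∀ {v} (hv : Q v = c), e (ψ v) = toQ ↥R (P v hv) := fun hv => by
    simp only [ψ, dif_pos hv, MulEquiv.apply_symm_apply]
    rfl
  have inj : ∀ {u v} (hu : Q u = c) (hv : Q v = c), ψ u = ψ v → v = u ∨ v = -u := fun hu hv e' =>
    eq_or_neg_of_refl_eq hc hu hv (congrArg Subtype.val (mk_inj hR h2 (x := P _ hu) (y := P _ hv) (refl_mem_norm hu)
      (refl_mem_norm hv) (by rw [← hψ hu, ← hψ hv, e'])))
  have same : ∀ {u v}, Q u = c → (v = u ∨ v = -u) → ψ u = ψ v := by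
    rintro u v hu (rfl | rfl)
    · rfl
    · have hv : Q (-u) = c := (Q_neg u).trans hu
      refine e.injective ?_
      rw [hψ hu, hψ hv]
      refine congrArg _ (Subtype.ext ?_)
      show refl Q u = refl Q (-u)
      rw [← neg_one_smul (ZMod 3) u, refl_smul Q (by decide)]
  have conj : ∀ {u v} (hu : Q u = c) (hv : Q v = c), ψ u * ψ v * ψ u = ψ (rv Q c u v) := by
    intro u v hu hv
    refine e.injective ?_
    rw [map_mul, map_mul, hψ hu, hψ hv, hψ ((rv_Q hu v).trans hv), ← map_mul, ← map_mul]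
    refine congrArg _ (Subtype.ext ?_)
    show refl Q u * refl Q v * refl Q u = refl Q (rv Q c u v)
    have := conj_refl (refl Q u) v
    rwa [refl_inv, ← rv_eq_ap hu] at this
  have sq : ∀ {u} (hu : Q u = c), ψ u * ψ u = 1 := fun hu => e.injective (by
    rw [map_mul, hψ hu, ← map_mul, map_one,
      show P _ hu * P _ hu = 1 from Subtype.ext (refl_mul_self Q _), map_one])
  refine ⟨n, hn, Q, c, ψ, hc, hQ, fun v hv => ?_, fun y hy => ?_, fun u v hu hv =>
    ⟨inj hu hv, same hu⟩, fun u v hu hv => ?_, fun u v hu hv => conj hu hv⟩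
  · have : e (ψ v) ∈ e '' D := by
      rw [he, hψ hv]
      exact ⟨P v hv, refl_mem_norm hv, rfl⟩
    obtain ⟨d, hd, hde⟩ := this
    exact e.injective hde ▸ hd
  · have : e y ∈ e '' D := ⟨y, hy, rfl⟩
    rw [he] at this
    obtain ⟨r, hr, hre⟩ := this
    change (r : IsoGrp Q) ∈ reflectionsOfNorm (⇑Q) c at hr
    rw [reflectionsOfNorm_eq] at hr
    obtain ⟨v, hv, hr⟩ := hr
    refine ⟨v, hv, e.injective ?_⟩
    rw [hψ hv, ← hre, show P v hv = r from Subtype.ext hr]
    rfl
  · have hw : Q (rv Q c u v) = c := (rv_Q hu v).trans hv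
    constructor
    · intro hcm
      have e1 : ψ (rv Q c u v) = ψ v := by
        rw [← conj hu hv, hcm.eq, mul_assoc, sq hu, mul_one]
      by_cases hb : polar ⇑Q u v = 0
      · exact Or.inl hb
      right
      have ht : c⁻¹ * polar ⇑Q u v ≠ 0 := mul_ne_zero (inv_ne_zero hc) hb
      rcases inj hw hv e1 with e2 | e2 <;> rw [rv] at e2
      · exfalso
        have : (c⁻¹ * polar ⇑Q u v) • u = 0 := by linear_combination (norm := module) e2
        rcases smul_eq_zero.1 this with h0 | h0
        · exact ht h0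
        · exact ne_zero_of_norm hc hu h0
      · have three : ((3 : ZMod 3)) • v = 0 := by rw [show (3 : ZMod 3) = 0 from rfl, zero_smul]
        have e3 : v = (-(c⁻¹ * polar ⇑Q u v)) • u := by
          linear_combination (norm := module) (-1 : ZMod 3) • e2 + three
        rcases f3_cases (-(c⁻¹ * polar ⇑Q u v)) with e' | e' | e' <;> rw [e'] at e3
        · exact absurd (by simpa using e3) (ne_zero_of_norm hc hv)
        · exact Or.inl (by simpa using e3)
        · exact Or.inr (by simpa using e3)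
    · rintro (hb | h2')
      · have h' := conj hu hv
        rw [rv_of_orth hb] at h'
        show ψ u * ψ v = ψ v * ψ u
        conv_rhs => rw [← h', mul_assoc, sq hu, mul_one]
      · rw [same hu h2']

end Cfsg.Agent.FischerMain
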