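/-
From the orthogonal chart at one member to the chart of the whole class (owner: helper28).

Main results (namespace `Cfsg.Agent.FischerMain`):
* `O3.ext` : the form `c a² + Q v` one dimension up
* `exists_chart_succ` : a class with an orthogonal chart at a member and its pattern has one a
  dimension higher
* (imported) `Chart3.o3Kind`, `O3Kind.exists_chart`
-/
import Cfsg.Agent.Lib.FischerMain.O3.Coord
import Cfsg.Agent.Lib.FischerMain.O3.Kind

set_option autoImplicit false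
set_option linter.unusedSectionVars false

namespace Cfsg.Agent.FischerMain

open Cfsg Cfsg.Agent.ThreeTransRank Cfsg.Agent.ThreeTrans Cfsg.Agent.Orth
open QuadraticMap (polar)

namespace O3

variable {n : ℕ}

/-- The form `c a² + Q v`. -/
noncomputable def ext (Q : QuadraticForm (ZMod 3) (Fin n → ZMod 3)) (c : ZMod 3) :
    QuadraticForm (ZMod 3) (Fin (n + 1) → ZMod 3) :=
  (c • (QuadraticMap.sq : QuadraticForm (ZMod 3) (ZMod 3))).comp (LinearMap.proj 0) +
    Q.comp (LinearMap.funLeft (ZMod 3) (ZMod 3) Fin.succ)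

variable {Q : QuadraticForm (ZMod 3) (Fin n → ZMod 3)} {c : ZMod 3}

theorem ext_apply (w : Fin (n + 1) → ZMod 3) :
    ext Q c w = c * (w 0 * w 0) + Q (Fin.tail w) := rfl

theorem ext_polar (w w' : Fin (n + 1) → ZMod 3) :
    polar ⇑(ext Q c) w w' = 2 * c * (w 0 * w' 0) + polar ⇑Q (Fin.tail w) (Fin.tail w') := by
  simp only [polar, ext_apply, Pi.add_apply,
    show Fin.tail (w + w') = Fin.tail w + Fin.tail w' from rfl]
  ring

theorem ext_cons (a : ZMod 3) (v : Fin n → ZMod 3) :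
    ext Q c (Fin.cons a v) = c * (a * a) + Q v := by
  rw [ext_apply, Fin.cons_zero, Fin.tail_cons]

theorem polar_cons (a a' : ZMod 3) (v v' : Fin n → ZMod 3) :
    polar ⇑(ext Q c) (Fin.cons a v : Fin (n + 1) → ZMod 3) (Fin.cons a' v') =
      2 * c * (a * a') + polar ⇑Q v v' := by
  rw [ext_polar, Fin.cons_zero, Fin.cons_zero, Fin.tail_cons, Fin.tail_cons]

theorem ext_nd (hc : c ≠ 0) (hQ : Q.polarBilin.Nondegenerate) :
    (ext Q c).polarBilin.Nondegenerate := by
  have key : ∀ w, (∀ y, polar ⇑(ext Q c) w y = 0) → w = 0 := by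
    intro w hw
    have h0 := hw (Fin.cons 1 0)
    rw [ext_polar, Fin.cons_zero, Fin.tail_cons, pl_zero_right, mul_one, add_zero] at h0
    have hw0 : w 0 = 0 := (mul_eq_zero.1 h0).resolve_left (mul_ne_zero (by decide) hc)
    have ht : Fin.tail w = 0 := hQ.1 _ fun v => by
      have h := hw (Fin.cons 0 v)
      rw [ext_polar, Fin.cons_zero, Fin.tail_cons, mul_zero, mul_zero, zero_add] at h
      exact h
    rw [← Fin.cons_self_tail w, hw0, ht]
    exact funext (Fin.cases rfl fun _ => rfl)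
  exact ⟨fun w h => key w h, fun w h => key w fun y => (pl_comm _ w y).trans (h y)⟩

theorem ext_det : polarGramDet ⇑(ext Q c) = 2 * c * polarGramDet ⇑Q := by
  have tl : ∀ i : Fin n, Fin.tail (Pi.single i.succ (1 : ZMod 3) : Fin (n + 1) → ZMod 3) =
      Pi.single i 1 := fun i => funext fun j => by simp [Fin.tail, Pi.single_apply]
  have t0 : Fin.tail (Pi.single 0 (1 : ZMod 3) : Fin (n + 1) → ZMod 3) = 0 :=
    funext fun j => by simp [Fin.tail]
  rw [polarGramDet, Matrix.det_succ_row_zero, Fin.sum_univ_succ, polarGramDet]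
  rw [Finset.sum_eq_zero (fun i _ => by simp [ext_polar, t0]), add_zero]
  simp only [Fin.val_zero, pow_zero, one_mul, Matrix.of_apply, ext_polar, t0, pl_zero_left,
    Pi.single_eq_same, add_zero, mul_one, Fin.succAbove_zero]
  congr 2
  ext i j
  simp [tl]

theorem rv_cons (a a' : ZMod 3) (v v' : Fin n → ZMod 3) :
    rv (ext Q c) c (Fin.cons a v : Fin (n + 1) → ZMod 3) (Fin.cons a' v') =
      Fin.cons (a' - c⁻¹ * (2 * c * (a * a') + polar ⇑Q v v') * a)
        (v' - (c⁻¹ * (2 * c * (a * a') + polar ⇑Q v v')) • v) := by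
  rw [rv, polar_cons]
  exact funext (Fin.cases rfl fun _ => rfl)

theorem neg_cons (a : ZMod 3) (v : Fin n → ZMod 3) :
    -(Fin.cons a v : Fin (n + 1) → ZMod 3) = Fin.cons (-a) (-v) :=
  funext (Fin.cases rfl fun _ => rfl)

section points

variable {G : Type*} [Group G] [Finite G] {D : Set G} {ψ : (Fin n → ZMod 3) → G} {x : G}
  {U : G → Fin n → ZMod 3}

open Classical in
/-- The chart of the whole class. -/
noncomputable def psi (D : Set G) (x : G) (ψ : (Fin n → ZMod 3) → G) (U : G → Fin n → ZMod 3)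
    (w : Fin (n + 1) → ZMod 3) : G :=
  if w 0 = 0 then ψ (Fin.tail w)
  else if h : ∃ z ∈ nonc D x, U z = w 0 • Fin.tail w then h.choose else x

variable (S : Setup D x Q c ψ) (hU : Coord D x Q c ψ U)
include S hU

local notation "Q'" => ext Q c
local notation "Ψ" => psi D x ψ U

theorem psi_adj (v : Fin n → ZMod 3) : Ψ (Fin.cons 0 v) = ψ v := by
  rw [psi, Fin.cons_zero, if_pos rfl, Fin.tail_cons]

theorem psi_x : Ψ (Fin.cons 1 0) = x := by
  rw [psi, Fin.cons_zero, if_neg (by decide), Fin.tail_cons, one_smul, dif_neg]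
  rintro ⟨z, hz, e⟩
  exact (hU.pat z hz).1 e

theorem psi_nonc {z : G} (hz : z ∈ nonc D x) : Ψ (Fin.cons 1 (U z)) = z := by
  rw [psi, Fin.cons_zero, if_neg (by decide), Fin.tail_cons, one_smul]
  have h : ∃ z' ∈ nonc D x, U z' = U z := ⟨z, hz, rfl⟩
  rw [dif_pos h]
  exact hU.inj h.choose_spec.1 hz h.choose_spec.2

theorem Q_x : Q' (Fin.cons 1 0) = c := by
  rw [ext_cons, QuadraticMap.map_zero]; ring

theorem Q_adj {v : Fin n → ZMod 3} (hv : Q v = c) : Q' (Fin.cons 0 v) = c := by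
  rw [ext_cons, hv]; ring

theorem Q_nonc {z : G} (hz : z ∈ nonc D x) : Q' (Fin.cons 1 (U z)) = c := by
  rw [ext_cons, (hU.pat z hz).2.1]; ring

theorem psi_neg {w : Fin (n + 1) → ZMod 3} (hw : Q' w = c) : Ψ (-w) = Ψ w := by
  have e : (-w) 0 • Fin.tail (-w) = w 0 • Fin.tail w := by
    rw [Pi.neg_apply, show Fin.tail (-w) = -Fin.tail w from rfl, neg_smul, smul_neg, neg_neg]
  by_cases h0 : w 0 = 0
  · rw [psi, psi, if_pos (by simp [h0]), if_pos h0, show Fin.tail (-w) = -Fin.tail w from rfl]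
    rw [ext_apply, h0, mul_zero, mul_zero, zero_add] at hw
    exact ((S.ch.eq_iff _ _ hw ((Q_neg _).trans hw)).2 (Or.inr rfl)).symm
  · rw [psi, psi, if_neg (by simpa using h0), if_neg h0]
    classical exact congrArg (fun a => if h : ∃ z ∈ nonc D x, U z = a then h.choose else x) e

theorem psi_of_or {w p : Fin (n + 1) → ZMod 3} (hp : Q' p = c) (h : w = p ∨ w = -p) :
    Ψ w = Ψ p := by
  rcases h with rfl | rfl
  · rfl
  · exact psi_neg S hU hp

/-- A property of points may be checked on the three kinds. -/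
theorem kinds {motive : (Fin (n + 1) → ZMod 3) → Prop}
    (neg : ∀ w, Q' w = c → motive w → motive (-w))
    (adj : ∀ v, Q v = c → motive (Fin.cons 0 v)) (base : motive (Fin.cons 1 0))
    (far : ∀ z ∈ nonc D x, motive (Fin.cons 1 (U z))) : ∀ w, Q' w = c → motive w := by
  intro w hw
  obtain ⟨a, v, rfl⟩ : ∃ a v, w = Fin.cons a v := ⟨_, _, (Fin.cons_self_tail w).symm⟩
  have pos : ∀ v, Q' (Fin.cons 1 v) = c → motive (Fin.cons 1 v) := by
    intro v hv
    rw [ext_cons] at hv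
    have hv' : Q v = 0 := by linear_combination hv
    by_cases hv0 : v = 0
    · rw [hv0]; exact base
    · obtain ⟨z, hz, rfl⟩ := hU.surj v hv0 hv'
      exact far z hz
  rcases f3_cases a with rfl | rfl | rfl
  · rw [ext_cons] at hw
    exact adj v (by linear_combination hw)
  · exact pos v hw
  · have e : (Fin.cons (-1 : ZMod 3) v : Fin (n + 1) → ZMod 3) = -Fin.cons 1 (-v) := by
      rw [neg_cons, neg_neg]
    rw [e] at hw ⊢
    rw [Q_neg] at hw
    exact neg _ hw (pos _ hw)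

theorem psi_mem : ∀ w, Q' w = c → Ψ w ∈ D :=
  kinds S hU (fun w hw h => by rwa [psi_neg S hU hw])
    (fun v hv => by rw [psi_adj S hU]; exact S.psi_mem hv) (by rw [psi_x S hU]; exact S.hx)
    (fun z hz => by rw [psi_nonc S hU hz]; exact hz.1)

theorem psi_surj : ∀ y ∈ D, ∃ w, Q' w = c ∧ Ψ w = y := by
  intro y hy
  by_cases hc : Commute x y
  · by_cases he : y = x
    · exact ⟨_, Q_x S hU, by rw [psi_x S hU, he]⟩
    · obtain ⟨v, hv, rfl⟩ := S.ch.surj y ⟨hy, he, hc⟩
      exact ⟨_, Q_adj S hU hv, psi_adj S hU v⟩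
  · exact ⟨_, Q_nonc S hU ⟨hy, hc⟩, psi_nonc S hU ⟨hy, hc⟩⟩

theorem psi_inj : ∀ u, Q' u = c → ∀ w, Q' w = c → Ψ u = Ψ w → w = u ∨ w = -u := by
  have neg_or : ∀ {u w : Fin (n + 1) → ZMod 3}, (w = u ∨ w = -u) → (w = -u ∨ w = - -u) :=
    fun h => by rw [neg_neg]; exact h.symm
  refine kinds S hU (fun u hu h w hw e => neg_or (h w hw (by rwa [psi_neg S hU hu] at e)))
    (fun v hv => ?_) ?_ (fun z hz => ?_) <;>
  refine kinds S hU (fun w hw h e => ?_) (fun v' hv' e => ?_) (fun e => ?_) (fun z' hz' e => ?_) <;>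
  first
    | (rw [psi_neg S hU hw] at e
       rcases h e with h' | h'
       · exact Or.inr (congrArg Neg.neg h')
       · exact Or.inl (by rw [h', neg_neg]))
    | simp only [psi_adj S hU, psi_x S hU] at e
    | skip
  · rcases (S.ch.eq_iff v v' hv hv').1 e with rfl | rfl
    · exact Or.inl rfl
    · exact Or.inr (by rw [neg_cons, neg_zero])
  · exact absurd e (S.psi_ne hv)
  · rw [psi_nonc S hU hz'] at e
    exact absurd (e ▸ S.psi_comm hv) hz'.2
  · exact absurd e.symm (S.psi_ne hv')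
  · exact Or.inl rfl
  · rw [psi_nonc S hU hz'] at e
    exact absurd (e ▸ Commute.refl x) hz'.2
  · rw [psi_nonc S hU hz] at e
    exact absurd (e ▸ S.psi_comm hv') hz.2
  · rw [psi_nonc S hU hz] at e
    exact absurd (e ▸ Commute.refl x) hz.2
  · rw [psi_nonc S hU hz, psi_nonc S hU hz'] at e
    exact Or.inl (by rw [e])

theorem psi_eq_iff (u w : Fin (n + 1) → ZMod 3) (hu : Q' u = c) (hw : Q' w = c) :
    Ψ u = Ψ w ↔ w = u ∨ w = -u :=
  ⟨psi_inj S hU u hu w hw, fun h => (psi_of_or S hU hu h).symm⟩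

theorem commute_iff : ∀ u, Q' u = c → ∀ w, Q' w = c →
    (Commute (Ψ u) (Ψ w) ↔ polar ⇑Q' u w = 0 ∨ Ψ u = Ψ w) := by
  have hc := S.ch.c_ne
  have h2c : (2 : ZMod 3) * c * (1 * 1) + 0 ≠ 0 := by
    rw [f3_two, mul_one, mul_one, add_zero]; exact neg_ne_zero.2 hc
  refine kinds S hU (fun u hu h w hw => by rw [psi_neg S hU hu, pl_neg_left, neg_eq_zero]; exact h w hw)
    (fun v hv => ?_) ?_ (fun z hz => ?_) <;>
  refine kinds S hU (fun w hw h => by rw [psi_neg S hU hw, pl_neg_right, neg_eq_zero]; exact h)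
    (fun v' hv' => ?_) ?_ (fun z' hz' => ?_) <;>
  simp only [psi_adj S hU, psi_x S hU, polar_cons, pl_zero_left, pl_zero_right, mul_zero, zero_mul,
    zero_add]
  · rw [S.ch.comm v v' hv hv', S.ch.eq_iff v v' hv hv']
  · exact iff_of_true (S.psi_comm hv).symm (Or.inl trivial)
  · rw [psi_nonc S hU hz', pl_comm, (hU.pat z' hz').2.2 v hv]
    exact ⟨Or.inl, fun h => h.resolve_right fun e => hz'.2 (e ▸ S.psi_comm hv)⟩
  · exact iff_of_true (S.psi_comm hv') (Or.inl trivial)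
  · exact iff_of_true (Commute.refl x) (Or.inr trivial)
  · rw [psi_nonc S hU hz']
    exact iff_of_false hz'.2 (not_or.2 ⟨by simpa [hc] using h2c, fun e => hz'.2 (e ▸ Commute.refl x)⟩)
  · rw [psi_nonc S hU hz]
    exact ⟨fun h => Or.inl (((hU.pat z hz).2.2 v' hv').1 h.symm), fun h =>
      (((hU.pat z hz).2.2 v' hv').2 (h.resolve_right fun e => hz.2 (e ▸ S.psi_comm hv'))).symm⟩
  · rw [psi_nonc S hU hz]
    exact iff_of_false (fun h => hz.2 h.symm)
      (not_or.2 ⟨by simpa [hc] using h2c, fun e => hz.2 (e ▸ Commute.refl x)⟩)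
  · rw [psi_nonc S hU hz, psi_nonc S hU hz', f3_two, mul_one, mul_one, neg_add_eq_zero]
    by_cases he : z = z'
    · exact iff_of_true (he ▸ Commute.refl z) (Or.inr he)
    by_cases hb : polar ⇑Q (U z) (U z') = 0
    · exact iff_of_false (fun h => he (hU.eq_of_commute z hz z' hz' hb h))
        (not_or.2 ⟨by rw [hb]; exact hc, he⟩)
    · rw [or_iff_left he, eq_comm]
      exact hU.coh z hz z' hz' hb

theorem rv_Q' {u w : Fin (n + 1) → ZMod 3} (hu : Q' u = c) (hw : Q' w = c) :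
    Q' (rv Q' c u w) = c := (rv_Q hu w).trans hw

theorem rv_neg_right (u w : Fin (n + 1) → ZMod 3) : rv Q' c u (-w) = -rv Q' c u w := by
  rw [← neg_one_smul (ZMod 3) w, rv_smul, neg_one_smul]

/-- Conjugation by `Ψ u` is the reflection at `w`. -/
def ConjAt (u w : Fin (n + 1) → ZMod 3) : Prop := Ψ u * Ψ w * Ψ u = Ψ (rv Q' c u w)

theorem conjAt_neg_left {u w : Fin (n + 1) → ZMod 3} (hu : Q' u = c)
    (h : ConjAt (D := D) (x := x) (ψ := ψ) (U := U) (Q := Q) (c := c) u w) :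
    ConjAt (D := D) (x := x) (ψ := ψ) (U := U) (Q := Q) (c := c) (-u) w := by
  rw [ConjAt, rv_neg, psi_neg S hU hu]; exact h

theorem conjAt_neg_right {u w : Fin (n + 1) → ZMod 3} (hu : Q' u = c) (hw : Q' w = c)
    (h : ConjAt (D := D) (x := x) (ψ := ψ) (U := U) (Q := Q) (c := c) u w) :
    ConjAt (D := D) (x := x) (ψ := ψ) (U := U) (Q := Q) (c := c) u (-w) := by
  rw [ConjAt, rv_neg_right S hU, psi_neg S hU hw, psi_neg S hU (rv_Q' S hU hu hw)]; exact h

theorem conjAt_swap {u w : Fin (n + 1) → ZMod 3} (hu : Q' u = c) (hw : Q' w = c)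
    (h : ConjAt (D := D) (x := x) (ψ := ψ) (U := U) (Q := Q) (c := c) u w) :
    ConjAt (D := D) (x := x) (ψ := ψ) (U := U) (Q := Q) (c := c) w u := by
  rw [ConjAt] at h ⊢
  have hD := S.set
  have mu := psi_mem S hU u hu
  have mw := psi_mem S hU w hw
  by_cases hc : Commute (Ψ u) (Ψ w)
  · rw [conj_conj_of_commute hD mw hc.symm]
    rcases (commute_iff S hU u hu w hw).1 hc with hb | he
    · rw [rv_of_orth (by rwa [pl_comm])]
    · rcases psi_inj S hU u hu w hw he with rfl | rfl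
      · rw [rv_self S.ch.c_ne hw, psi_neg S hU hw]
      · rw [rv_neg, rv_self S.ch.c_ne hu, psi_neg S hU hu]
  · rw [← braid hD mu mw hc, h]
    refine psi_of_or S hU (rv_Q' S hU hw hu) ?_
    exact rv_swap S.ch.c_ne fun e => hc ((commute_iff S hU u hu w hw).2 (Or.inl e))

theorem U_conj {v : Fin n → ZMod 3} (hv : Q v = c) {z : G} (hz : z ∈ nonc D x) :
    U (ψ v * z * ψ v) = rv Q c v (U z) := by
  have hm := S.conj_nonc (S.psi_mem hv) (S.psi_comm hv) hz
  have hp := hU.pat z hz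
  by_cases hb : polar ⇑Q (U z) v = 0
  · rw [conj_conj_of_commute S.set (S.psi_mem hv) ((hp.2.2 v hv).2 hb),
      rv_of_orth (by rwa [pl_comm])]
  · rcases S.pat_unique (S.pat_conj hp hv) (hU.pat _ hm) with e | e
    · exact e
    exfalso
    have hval : polar ⇑Q (U z) (U (ψ v * z * ψ v)) = c := by
      rw [e, pl_neg_right, rv, pl_sub_right, pl_smul_right, polar_self_sing hp.2.1, pl_comm Q v (U z),
        zero_sub, neg_neg, mul_assoc, f3_sq _ hb, mul_one, f3_inv]
    exact (S.string_l1 hz hp hv hb).1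
      ((hU.coh z hz _ hm (by rw [hval]; exact S.ch.c_ne)).2 hval)

theorem conj_x_left : ∀ w, Q' w = c →
    ConjAt (D := D) (x := x) (ψ := ψ) (U := U) (Q := Q) (c := c) (Fin.cons 1 0) w := by
  have hc := S.ch.c_ne
  have co : c⁻¹ * (2 * c) = -1 := by
    rw [f3_two, mul_neg, f3_inv, f3_sq c hc]
  refine kinds S hU (fun w hw h => conjAt_neg_right S hU (Q_x S hU) hw h) (fun v hv => ?_) ?_
    (fun z hz => ?_) <;>
  simp only [ConjAt, rv_cons, pl_zero_left, smul_zero, sub_zero, mul_zero, mul_one, add_zero, co,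
    psi_x S hU]
  · rw [psi_adj S hU, conj_conj_of_commute S.set S.hx (S.psi_comm hv)]
  · rw [conj_conj_of_commute S.set S.hx (Commute.refl x)]
    have e : (1 : ZMod 3) - -1 = -1 := by decide
    rw [e, show (Fin.cons (-1 : ZMod 3) 0 : Fin (n + 1) → ZMod 3) = -Fin.cons 1 0 by
      rw [neg_cons, neg_zero], psi_neg S hU (Q_x S hU), psi_x S hU]
  · have e : (1 : ZMod 3) - -1 = -1 := by decide
    have hzx := S.xconj_nonc hz
    rw [e, psi_nonc S hU hz, show (Fin.cons (-1 : ZMod 3) (U z) : Fin (n + 1) → ZMod 3) =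
      -Fin.cons 1 (U (x * z * x)) by rw [neg_cons, hU.conj_x z hz, neg_neg],
      psi_neg S hU (Q_nonc S hU hzx), psi_nonc S hU hzx]

theorem conj_adj_left {v : Fin n → ZMod 3} (hv : Q v = c) : ∀ w, Q' w = c →
    ConjAt (D := D) (x := x) (ψ := ψ) (U := U) (Q := Q) (c := c) (Fin.cons 0 v) w := by
  refine kinds S hU (fun w hw h => conjAt_neg_right S hU (Q_adj S hU hv) hw h) (fun v' hv' => ?_) ?_
    (fun z hz => ?_) <;>
  simp only [ConjAt, rv_cons, zero_mul, mul_zero, zero_add, sub_zero, psi_adj S hU]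
  · exact S.ch.conj v v' hv hv'
  · rw [pl_zero_right, mul_zero, zero_smul, sub_zero, psi_x S hU,
      conj_conj_of_commute S.set (S.psi_mem hv) (S.psi_comm hv).symm]
  · rw [psi_nonc S hU hz, ← rv, ← U_conj S hU hv hz,
      psi_nonc S hU (S.conj_nonc (S.psi_mem hv) (S.psi_comm hv) hz)]

theorem rv_conj_commute {z : G} (hz : z ∈ nonc D x) {t y : Fin (n + 1) → ZMod 3} {d : G}
    (ht : Q' t = c) (hy : Q' y = c)
    (hy' : ConjAt (D := D) (x := x) (ψ := ψ) (U := U) (Q := Q) (c := c) (Fin.cons 1 (U z)) y)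
    (htd : Ψ (rv Q' c (Fin.cons 1 (U z)) t) = z * d * z) :
    Commute (Ψ t) (Ψ y) ↔ Commute d (Ψ y) := by
  set p : Fin (n + 1) → ZMod 3 := Fin.cons 1 (U z) with hp
  have qp : Q' p = c := Q_nonc S hU hz
  rw [ConjAt, hp, psi_nonc S hU hz, ← hp] at hy'
  have e : Commute (Ψ t) (Ψ y) ↔ Commute (Ψ (rv Q' c p t)) (Ψ (rv Q' c p y)) := by
    rw [commute_iff S hU t ht y hy, commute_iff S hU _ (rv_Q' S hU qp ht) _ (rv_Q' S hU qp hy),
      rv_polar qp, psi_eq_iff S hU t y ht hy,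
      psi_eq_iff S hU _ _ (rv_Q' S hU qp ht) (rv_Q' S hU qp hy)]
    refine or_congr_right ⟨?_, fun h => ?_⟩
    · rintro (rfl | rfl)
      · exact Or.inl rfl
      · exact Or.inr (rv_neg_right S hU p t)
    · rcases h with h | h <;> have h' := congrArg (rv Q' c p) h
      · rw [rv_rv qp, rv_rv qp] at h'
        exact Or.inl h'
      · rw [rv_neg_right S hU, rv_rv qp, rv_rv qp] at h'
        exact Or.inr h'
  rw [e, htd, ← hy']
  have cm : ∀ {a b : G}, Commute a b → Commute (z * a * z) (z * b * z) := fun h => by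
    have := h.map (MulAut.conj z).toMonoidHom
    simpa [inv_eq S.set hz.1] using this
  refine ⟨fun h => ?_, cm⟩
  have := cm h
  simpa only [mul_assoc, mul_self S.set hz.1, mul_one, mul_self_cancel S.set hz.1] using this

theorem exists_rv_point {z : G} (hz : z ∈ nonc D x) {d : G} (hd : d ∈ D) :
    ∃ t, Q' t = c ∧ Ψ (rv Q' c (Fin.cons 1 (U z)) t) = z * d * z := by
  obtain ⟨w, hw, hwd⟩ := psi_surj S hU _ (S.base.conj_mem' hz.1 hd)
  exact ⟨rv Q' c (Fin.cons 1 (U z)) w, rv_Q' S hU (Q_nonc S hU hz) hw,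
    by rw [rv_rv (Q_nonc S hU hz)]; exact hwd⟩

theorem conj_far {z : G} (hz : z ∈ nonc D x) : ∀ z' ∈ nonc D x,
    ConjAt (D := D) (x := x) (ψ := ψ) (U := U) (Q := Q) (c := c) (Fin.cons 1 (U z))
      (Fin.cons 1 (U z')) := by
  have qp := Q_nonc S hU hz
  have k_self : ConjAt (D := D) (x := x) (ψ := ψ) (U := U) (Q := Q) (c := c) (Fin.cons 1 (U z))
      (Fin.cons 1 (U z)) := by
    rw [ConjAt, rv_self S.ch.c_ne qp, psi_neg S hU qp, psi_nonc S hU hz, mul_self S.set hz.1,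
      one_mul]
  have k_x : ConjAt (D := D) (x := x) (ψ := ψ) (U := U) (Q := Q) (c := c) (Fin.cons 1 (U z))
      (Fin.cons 1 0) := conjAt_swap S hU (Q_x S hU) qp (conj_x_left S hU _ qp)
  have k_adj : ∀ v, Q v = c → ConjAt (D := D) (x := x) (ψ := ψ) (U := U) (Q := Q) (c := c)
      (Fin.cons 1 (U z)) (Fin.cons 0 v) := fun v hv =>
    conjAt_swap S hU (Q_adj S hU hv) qp (conj_adj_left S hU hv _ qp)
  -- the reflected point has the same singular point
  have near : ∀ {z' : G}, z' ∈ nonc D x → ∃ t, Q' t = c ∧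
      Ψ (rv Q' c (Fin.cons 1 (U z)) t) = z * z' * z ∧ (Ψ t = z' ∨ Ψ t = x * z' * x) := by
    intro z' hz'
    obtain ⟨t, ht, htd⟩ := exists_rv_point S hU hz hz'.1
    refine ⟨t, ht, htd, ?_⟩
    have h1 := rv_conj_commute S hU hz ht (Q_x S hU) k_x htd
    rw [psi_x S hU] at h1
    have hm : Ψ t ∈ nonc D x := ⟨psi_mem S hU t ht, fun h => hz'.2 (h1.1 h.symm).symm⟩
    have hpat : Pat Q c ψ (Ψ t) (U z') := by
      refine ⟨(hU.pat z' hz').1, (hU.pat z' hz').2.1, fun v hv => ?_⟩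
      have h2 := rv_conj_commute S hU hz ht (Q_adj S hU hv) (k_adj v hv) htd
      rw [psi_adj S hU] at h2
      rw [← (hU.pat z' hz').2.2 v hv]
      exact ⟨fun h => (h2.1 h.symm).symm, fun h => (h2.2 h.symm).symm⟩
    exact S.fibre hz' hm (hU.pat z' hz') hpat
  have finish : ∀ {z' : G} {t : Fin (n + 1) → ZMod 3}, z' ∈ nonc D x → Q' t = c →
      Ψ (rv Q' c (Fin.cons 1 (U z)) t) = z * z' * z → Ψ t = z' →
      ConjAt (D := D) (x := x) (ψ := ψ) (U := U) (Q := Q) (c := c) (Fin.cons 1 (U z))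
        (Fin.cons 1 (U z')) := by
    intro z' t hz' ht htd e
    rw [ConjAt, psi_nonc S hU hz, psi_nonc S hU hz', ← htd]
    rcases psi_inj S hU _ (Q_nonc S hU hz') t ht (by rw [psi_nonc S hU hz', e]) with rfl | rfl
    · rfl
    · rw [rv_neg_right S hU, psi_neg S hU (rv_Q' S hU qp (Q_nonc S hU hz'))]
  -- signs: compare with a member whose point is not orthogonal
  have sign : ∀ {z' y : G}, z' ∈ nonc D x → y ∈ nonc D x → polar ⇑Q (U z') (U y) ≠ 0 →
      ConjAt (D := D) (x := x) (ψ := ψ) (U := U) (Q := Q) (c := c) (Fin.cons 1 (U z))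
        (Fin.cons 1 (U y)) →
      ConjAt (D := D) (x := x) (ψ := ψ) (U := U) (Q := Q) (c := c) (Fin.cons 1 (U z))
        (Fin.cons 1 (U z')) := by
    intro z' y hz' hy hb hcy
    obtain ⟨t, ht, htd, e | e⟩ := near hz'
    · exact finish hz' ht htd e
    exfalso
    have h := rv_conj_commute S hU hz ht (Q_nonc S hU hy) hcy htd
    rw [psi_nonc S hU hy, e] at h
    have l := S.l1 hy hz' (hU.pat y hy) (hU.pat z' hz') (by rwa [pl_comm])
    exact iff_not_self (((⟨Commute.symm, Commute.symm⟩ : Commute y z' ↔ Commute z' y).symm.trans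
      l).trans (not_congr ((⟨Commute.symm, Commute.symm⟩ :
        Commute y (x * z' * x) ↔ Commute (x * z' * x) y).trans h)))
  intro z' hz'
  obtain ⟨u, hu, h1, h2⟩ := exists_sing_nonorth S.ch.nd (by have := S.le; omega)
    (hU.pat z hz).1 (hU.pat z' hz').1 (hU.pat z hz).2.1 (hU.pat z' hz').2.1
  obtain ⟨y, hy, rfl⟩ := hU.surj u (fun e => h1 (by rw [e, pl_zero_right])) hu
  exact sign hz' hy h2 (sign hy hz (by rwa [pl_comm]) k_self)

theorem conj_all : ∀ u, Q' u = c → ∀ w, Q' w = c →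
    ConjAt (D := D) (x := x) (ψ := ψ) (U := U) (Q := Q) (c := c) u w :=
  kinds S hU (fun _ hu h w hw => conjAt_neg_left S hU hu (h w hw))
    (fun _ hv => conj_adj_left S hU hv) (conj_x_left S hU)
    (fun _ hz => kinds S hU (fun _ hw h => conjAt_neg_right S hU (Q_nonc S hU hz) hw h)
      (fun _ hv => conjAt_swap S hU (Q_adj S hU hv) (Q_nonc S hU hz)
        (conj_adj_left S hU hv _ (Q_nonc S hU hz)))
      (conjAt_swap S hU (Q_x S hU) (Q_nonc S hU hz) (conj_x_left S hU _ (Q_nonc S hU hz)))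
      (conj_far S hU hz))

theorem chart : Chart3 D Q' c Ψ where
  c_ne := S.ch.c_ne
  nd := ext_nd S.ch.c_ne S.ch.nd
  mem := psi_mem S hU
  surj := psi_surj S hU
  eq_iff := psi_eq_iff S hU
  comm := fun u w hu hw => by rw [commute_iff S hU u hu w hw, psi_eq_iff S hU u w hu hw]
  conj := fun u w hu hw => conj_all S hU u hu w hw

end points

end O3

variable {G : Type*} [Group G] [Finite G] {D : Set G} {n : ℕ}
  {Q : QuadraticForm (ZMod 3) (Fin n → ZMod 3)} {c : ZMod 3} {ψ : (Fin n → ZMod 3) → G} {x : G}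

/-- A chart at a member with its pattern extends to the whole class. -/
theorem exists_chart_succ (h : Base D) (_hconn : ConnectedComm D) (hn : 5 ≤ n) (hx : x ∈ D)
    (hch : Chart3 (adj D x) Q c ψ)
    (hpat : ∀ z ∈ nonc D x, ∃ u, u ≠ 0 ∧ Q u = 0 ∧
      ∀ v, Q v = c → (Commute (ψ v) z ↔ polar ⇑Q u v = 0)) :
    ∃ (Q' : QuadraticForm (ZMod 3) (Fin (n + 1) → ZMod 3)) (ψ' : (Fin (n + 1) → ZMod 3) → G),
      Chart3 D Q' c ψ' ∧ polarGramDet ⇑Q' = 2 * c * polarGramDet ⇑Q := by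
  have S : O3.Setup D x Q c ψ := ⟨h, hn, hx, hch, hpat⟩
  obtain ⟨U, hU⟩ := S.exists_coord
  exact ⟨_, _, O3.chart S hU, O3.ext_det⟩

end Cfsg.Agent.FischerMain
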