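/-
Orthogonal spaces over three elements: families of orthogonal vectors of one norm and singular vectors.

Main results: `singular_unique`, `exists_orth_norm_singular`, `exists_line_radical`.
-/
import Cfsg.Agent.Lib.Orth.Basic

set_option autoImplicit false

namespace Cfsg.Agent.FischerMain.O3

open Module
open QuadraticMap (polar)
open Cfsg.Agent.Orth

variable {n : ℕ} {Q : QuadraticForm (ZMod 3) (Fin n → ZMod 3)} {c : ZMod 3}

/-- Pairwise orthogonal vectors of norm `c`. -/
def OrthNorm (Q : QuadraticForm (ZMod 3) (Fin n → ZMod 3)) (c : ZMod 3) {j : ℕ}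
    (p : Fin j → Fin n → ZMod 3) : Prop :=
  (∀ i, Q (p i) = c) ∧ ∀ i k, i ≠ k → polar ⇑Q (p i) (p k) = 0

theorem pl_self_norm {v : Fin n → ZMod 3} (hv : Q v = c) : polar ⇑Q v v = -c := by
  rw [pl_self, hv, show (2 : ZMod 3) = -1 from by decide, neg_one_mul]

theorem inv_self : ∀ a : ZMod 3, a ≠ 0 → a⁻¹ = a ∧ a * a = 1 := by decide +kernel

theorem z3_cases : ∀ a c : ZMod 3, c ≠ 0 → a = 0 ∨ a = c ∨ a = -c := by decide

theorem z3_double : ∀ a : ZMod 3, a + a = -a := by decide

theorem eq_zero_of_all {u : Fin n → ZMod 3} (hnd : Q.polarBilin.Nondegenerate)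
    (h : ∀ x, polar ⇑Q u x = 0) : u = 0 := hnd.1 u h

/-- Projection away from an orthogonal family. -/
noncomputable def proj (Q : QuadraticForm (ZMod 3) (Fin n → ZMod 3)) (c : ZMod 3) {j : ℕ}
    (p : Fin j → Fin n → ZMod 3) (x : Fin n → ZMod 3) : Fin n → ZMod 3 :=
  x + ∑ i, (c⁻¹ * polar ⇑Q (p i) x) • p i

theorem pl_sum_right {κ : Type*} (s : Finset κ) (f : κ → Fin n → ZMod 3) (y : Fin n → ZMod 3) :
    polar ⇑Q y (∑ i ∈ s, f i) = ∑ i ∈ s, polar ⇑Q y (f i) :=
  map_sum (Q.polarBilin y) f s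

theorem polar_proj {j : ℕ} {p : Fin j → Fin n → ZMod 3} (hp : OrthNorm Q c p) (hc : c ≠ 0)
    (x : Fin n → ZMod 3) (k : Fin j) : polar ⇑Q (p k) (proj Q c p x) = 0 := by
  rw [proj, pl_add_right, pl_sum_right, Finset.sum_eq_single k
    (fun i _ hi => by rw [pl_smul_right, hp.2 k i (Ne.symm hi), mul_zero]) (by simp),
    pl_smul_right, pl_self_norm (hp.1 k), (inv_self c hc).1]
  linear_combination (-(polar ⇑Q (p k) x)) * (inv_self c hc).2

theorem polar_proj_of_orth {j : ℕ} {p : Fin j → Fin n → ZMod 3} {y : Fin n → ZMod 3}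
    (hy : ∀ i, polar ⇑Q (p i) y = 0) (x : Fin n → ZMod 3) :
    polar ⇑Q y (proj Q c p x) = polar ⇑Q y x := by
  rw [proj, pl_add_right, pl_sum_right, Finset.sum_eq_zero fun i _ => by
    rw [pl_smul_right, pl_comm Q y, hy i, mul_zero], add_zero]

/-- Independent vectors orthogonal to an independent family. -/
theorem card_add_two_le (hnd : Q.polarBilin.Nondegenerate) {κ : Type*} [Fintype κ]
    {w : κ → Fin n → ZMod 3} (hw : LinearIndependent (ZMod 3) w) {x : Fin 2 → Fin n → ZMod 3}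
    (hx : LinearIndependent (ZMod 3) x) (h : ∀ k i, polar ⇑Q (w k) (x i) = 0) :
    Fintype.card κ + 2 ≤ n := by
  classical
  let T : (Fin n → ZMod 3) →ₗ[ZMod 3] (κ → ZMod 3) := LinearMap.pi fun i => Q.polarBilin (w i)
  have hT : LinearMap.range T = ⊤ := by
    by_contra hr
    obtain ⟨f, hf, hker⟩ := Submodule.exists_le_ker_of_lt_top _ (lt_top_iff_ne_top.2 hr)
    apply hf
    have hz : ∑ i, f (Pi.single i 1) • w i = 0 := by
      refine hnd.1 _ fun y => ?_
      have h0 : f (T y) = 0 := hker ⟨y, rfl⟩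
      rw [pi_eq_sum_univ' (T y), map_sum] at h0
      rw [map_sum, LinearMap.sum_apply, ← h0]
      exact Finset.sum_congr rfl fun i _ => by
        rw [map_smul, map_smul, LinearMap.smul_apply, smul_eq_mul, smul_eq_mul, mul_comm]; rfl
    have := Fintype.linearIndependent_iff.1 hw _ hz
    exact LinearMap.pi_ext' fun i => LinearMap.ext_ring (by simpa using this i)
  have h1 := LinearMap.finrank_range_add_finrank_ker T
  rw [hT, finrank_top, Module.finrank_pi, Module.finrank_pi, Fintype.card_fin] at h1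
  have h2 : Submodule.span (ZMod 3) (Set.range x) ≤ LinearMap.ker T := by
    rw [Submodule.span_le]
    rintro _ ⟨i, rfl⟩
    exact funext fun k => h k i
  have h3 := Submodule.finrank_mono h2
  rw [finrank_span_eq_card hx, Fintype.card_fin] at h3
  omega

theorem coeff_eq_zero {j : ℕ} {p : Fin j → Fin n → ZMod 3} (hp : OrthNorm Q c p) (hc : c ≠ 0)
    {g : Fin j → ZMod 3} {y : Fin n → ZMod 3} (hy : ∀ k, polar ⇑Q (p k) y = 0)
    (hg : ∑ i, g i • p i + y = 0) : (∀ k, g k = 0) ∧ y = 0 := by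
  have h1 : ∀ k, g k = 0 := by
    intro k
    have e := congrArg (polar ⇑Q (p k)) hg
    rw [pl_add_right, pl_sum_right, pl_zero_right, Finset.sum_eq_single k
      (fun i _ hi => by rw [pl_smul_right, hp.2 k i (Ne.symm hi), mul_zero]) (by simp),
      pl_smul_right, pl_self_norm (hp.1 k), hy k, add_zero] at e
    exact (mul_eq_zero.1 e).resolve_right (neg_ne_zero.2 hc)
  exact ⟨h1, by simpa [h1] using hg⟩

theorem li_sum {j : ℕ} {p : Fin j → Fin n → ZMod 3} (hp : OrthNorm Q c p) (hc : c ≠ 0)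
    {x : Fin 2 → Fin n → ZMod 3} (hx : LinearIndependent (ZMod 3) x)
    (hpx : ∀ k i, polar ⇑Q (p k) (x i) = 0) : LinearIndependent (ZMod 3) (Sum.elim p x) := by
  rw [Fintype.linearIndependent_iff]
  intro g hg
  rw [Fintype.sum_sum_type] at hg
  simp only [Sum.elim_inl, Sum.elim_inr] at hg
  obtain ⟨h1, h2⟩ := coeff_eq_zero hp hc
    (fun k => by rw [pl_sum_right]; exact Finset.sum_eq_zero fun i _ => by rw [pl_smul_right, hpx, mul_zero]) hg
  rintro (i | i)
  exacts [h1 i, Fintype.linearIndependent_iff.1 hx (fun i => g (.inr i)) h2 i]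

/-- Orthogonal singular vectors orthogonal to a family of corank three are proportional. -/
theorem singular_unique (hnd : Q.polarBilin.Nondegenerate) (hc : c ≠ 0) {j : ℕ}
    {p : Fin j → Fin n → ZMod 3} (hp : OrthNorm Q c p) (hj : n ≤ j + 3) {u u' : Fin n → ZMod 3}
    (hu : u ≠ 0) (hQu : Q u = 0) (hQu' : Q u' = 0) (huu : polar ⇑Q u u' = 0)
    (hpu : ∀ i, polar ⇑Q (p i) u = 0) (hpu' : ∀ i, polar ⇑Q (p i) u' = 0) :
    ∃ a : ZMod 3, u' = a • u := by
  by_contra hne
  have hind : LinearIndependent (ZMod 3) ![u, u'] :=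
    (LinearIndependent.pair_iff' hu).2 fun a ha => hne ⟨a, ha.symm⟩
  have hpx : ∀ k i, polar ⇑Q (p k) (![u, u'] i) = 0 := fun k i => by fin_cases i <;> simp [hpu, hpu']
  have := card_add_two_le hnd (li_sum hp hc hind hpx) hind (by
    rintro (k | k) i
    · exact hpx k i
    · fin_cases i <;> fin_cases k <;> simp [huu, pl_comm Q u' u, pl_self, hQu, hQu'])
  rw [Fintype.card_sum, Fintype.card_fin, Fintype.card_fin] at this
  omega

/-- The orthogonal complement of a singular vector is spanned by a family, one vector and itself. -/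
theorem perp_unique (hnd : Q.polarBilin.Nondegenerate) (hc : c ≠ 0) {j : ℕ}
    {p : Fin j → Fin n → ZMod 3} (hp : OrthNorm Q c p) (hj : n ≤ j + 3) {u e y : Fin n → ZMod 3}
    (hu : u ≠ 0) (hQu : Q u = 0) (he : Q e ≠ 0) (heu : polar ⇑Q e u = 0)
    (hpu : ∀ i, polar ⇑Q (p i) u = 0) (hpe : ∀ i, polar ⇑Q (p i) e = 0)
    (hpy : ∀ i, polar ⇑Q (p i) y = 0) (hey : polar ⇑Q e y = 0) (huy : polar ⇑Q u y = 0) :
    ∃ a : ZMod 3, y = a • u := by
  by_contra hne
  have hind : LinearIndependent (ZMod 3) ![u, y] :=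
    (LinearIndependent.pair_iff' hu).2 fun a ha => hne ⟨a, ha.symm⟩
  have heu' : LinearIndependent (ZMod 3) ![u, e] := (LinearIndependent.pair_iff' hu).2 fun a ha =>
    he (by rw [← ha, Q_smul, hQu, mul_zero])
  have := card_add_two_le hnd (li_sum hp hc heu' fun k i => by fin_cases i <;> simp [hpu, hpe]) hind (by
    rintro (k | k) i
    · fin_cases i <;> simp [hpu, hpy]
    · fin_cases i <;> fin_cases k <;> simp [huy, heu, hey, pl_self, hQu])
  rw [Fintype.card_sum, Fintype.card_fin, Fintype.card_fin] at this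
  omega

/-- A vector of norm `c` orthogonal to an orthogonal family and to a singular vector. -/
theorem exists_orth_norm_singular (hnd : Q.polarBilin.Nondegenerate) (hc : c ≠ 0) {j : ℕ}
    {p : Fin j → Fin n → ZMod 3} (hp : OrthNorm Q c p) (hj : j + 4 ≤ n) {u : Fin n → ZMod 3}
    (hu : u ≠ 0) (hpu : ∀ i, polar ⇑Q (p i) u = 0) :
    ∃ q, Q q = c ∧ (∀ i, polar ⇑Q (p i) q = 0) ∧ polar ⇑Q u q = 0 := by
  set S := orthFam Q (Fin.cons u p : Fin (j + 1) → Fin n → ZMod 3)
  have hmem : ∀ x, x ∈ S ↔ polar ⇑Q u x = 0 ∧ ∀ i, polar ⇑Q (p i) x = 0 := fun x => by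
    simp only [S, mem_orthFam, Fin.forall_fin_succ, Fin.cons_zero, Fin.cons_succ]
  have hdim : n ≤ finrank (ZMod 3) S + (j + 1) := by
    have := card_le_finrank_orthFam (Q := Q) (Fin.cons u p : Fin (j + 1) → Fin n → ZMod 3)
    rw [Fintype.card_fin] at this
    omega
  obtain ⟨y, hy⟩ := exists_polar_ne hnd hu
  set y' := (polar ⇑Q u y)⁻¹ • proj Q c p y
  have hy1 : polar ⇑Q u y' = 1 := by
    rw [pl_smul_right, polar_proj_of_orth hpu, inv_mul_cancel₀ hy]
  have hy2 : ∀ i, polar ⇑Q (p i) y' = 0 := fun i => by rw [pl_smul_right, polar_proj hp hc, mul_zero]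
  have hrad : ∀ r ∈ S, (∀ t ∈ S, polar ⇑Q r t = 0) → r ∈ Submodule.span (ZMod 3) {u} := by
    intro r hr h0
    rw [Submodule.mem_span_singleton]
    refine ⟨polar ⇑Q r y', ?_⟩
    refine (sub_eq_zero.1 (eq_zero_of_all hnd fun x => ?_)).symm
    have hx : proj Q c p x - polar ⇑Q u (proj Q c p x) • y' ∈ S := by
      rw [hmem]
      refine ⟨by rw [pl_sub_right, pl_smul_right, hy1, mul_one, sub_self], fun i => ?_⟩
      rw [pl_sub_right, pl_smul_right, hy2, mul_zero, polar_proj hp hc, sub_zero]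
    have e := h0 _ hx
    rw [pl_sub_right, pl_smul_right, polar_proj_of_orth ((hmem r).1 hr).2,
      polar_proj_of_orth hpu] at e
    rw [pl_sub_left, pl_smul_left]
    linear_combination e
  by_contra hcon
  have hno : ∀ q ∈ S, Q q ≠ c := fun q hq e => hcon ⟨q, e, ((hmem q).1 hq).2, ((hmem q).1 hq).1⟩
  have hval : ∀ q ∈ S, Q q = 0 ∨ Q q = -c := fun q hq => by
    rcases z3_cases (Q q) c hc with e | e | e
    exacts [Or.inl e, absurd e (hno q hq), Or.inr e]
  by_cases hall : ∀ q ∈ S, Q q = 0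
  · have hle : S ≤ Submodule.span (ZMod 3) {u} := fun r hr => hrad r hr fun t ht => by
      simp [polar, hall _ hr, hall _ ht, hall _ (add_mem hr ht)]
    have := (Submodule.finrank_mono hle).trans (finrank_span_singleton hu).le
    omega
  simp only [not_forall] at hall
  obtain ⟨s, hs, hs0⟩ := hall
  have hsc : Q s = -c := (hval s hs).resolve_left hs0
  have hss : polar ⇑Q s s = c := by rw [pl_self_norm hsc, neg_neg]
  let π : (Fin n → ZMod 3) → (Fin n → ZMod 3) := fun x => x - (c⁻¹ * polar ⇑Q s x) • s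
  have hπ : ∀ x ∈ S, π x ∈ S ∧ polar ⇑Q s (π x) = 0 := fun x hx =>
    ⟨sub_mem hx (Submodule.smul_mem _ _ hs), by
      simp only [π, pl_sub_right, pl_smul_right, hss]
      field_simp; ring⟩
  by_cases hall' : ∀ x ∈ S, Q (π x) = 0
  · have hπid : ∀ x, polar ⇑Q s x = 0 → π x = x := fun x hx => by simp [π, hx]
    have hle : S ≤ Submodule.span (ZMod 3) {u} ⊔ Submodule.span (ZMod 3) {s} := fun x hx => by
      have hr : π x ∈ Submodule.span (ZMod 3) {u} := by
        refine hrad _ (hπ x hx).1 fun t ht => ?_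
        have e : t = π t + (c⁻¹ * polar ⇑Q s t) • s := by simp [π]
        rw [e, pl_add_right, pl_smul_right, pl_comm Q (π x) s, (hπ x hx).2, mul_zero, add_zero]
        have h3 : Q (π x + π t) = 0 := by
          have hm := add_mem (hπ x hx).1 (hπ t ht).1
          have e2 := hall' _ hm
          rwa [hπid (π x + π t) (by rw [pl_add_right, (hπ x hx).2, (hπ t ht).2, add_zero])] at e2
        simp [polar, h3, hall' x hx, hall' t ht]
      rw [show x = π x + (c⁻¹ * polar ⇑Q s x) • s by simp [π]]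
      exact Submodule.add_mem_sup hr (Submodule.smul_mem _ _ (Submodule.mem_span_singleton_self s))
    have hs1 : s ≠ 0 := fun e => hs0 (by simp [e])
    have h4 := (Submodule.finrank_mono hle).trans
      (Submodule.finrank_add_le_finrank_add_finrank _ _)
    rw [finrank_span_singleton hu, finrank_span_singleton hs1] at h4
    omega
  simp only [not_forall] at hall'
  obtain ⟨x, hx, hx0⟩ := hall'
  have h1 := (hval _ (hπ x hx).1).resolve_left hx0
  refine hno _ (add_mem hs (hπ x hx).1) ?_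
  rw [Q_add, hsc, h1, (hπ x hx).2, add_zero, z3_double, neg_neg]

/-- The radical of the line through two non-orthogonal points. -/
theorem exists_line_radical (hc : c ≠ 0) {p q : Fin n → ZMod 3} (hp : Q p = c) (hq : Q q = c)
    (hpq : polar ⇑Q p q ≠ 0) (h1 : q ≠ p) (h2 : q ≠ -p) :
    ∃ u, u ≠ 0 ∧ Q u = 0 ∧ polar ⇑Q p u = 0 ∧ (q = p + u ∨ q = -(p + u)) := by
  obtain ⟨q', hq', hB, hor⟩ : ∃ q', Q q' = c ∧ polar ⇑Q p q' = -c ∧ (q = q' ∨ q = -q') := by
    rcases z3_cases (polar ⇑Q p q) c hc with e | e | e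
    · exact absurd e hpq
    · exact ⟨-q, by rw [QuadraticMap.map_neg, hq], by rw [pl_neg_right, e], Or.inr (neg_neg q).symm⟩
    · exact ⟨q, hq, e, Or.inl rfl⟩
  refine ⟨q' - p, fun e => ?_, ?_, ?_, ?_⟩
  · rw [sub_eq_zero] at e
    subst e
    exact hor.elim h1 h2
  · rw [Q_sub, hq', hp, pl_comm, hB, z3_double, sub_neg_eq_add, neg_add_cancel]
  · rw [pl_sub_right, hB, pl_self_norm hp, sub_self]
  · rw [add_sub_cancel]; exact hor

/-- Orthogonal to all or to none of the three points of a line means orthogonal to its radical. -/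
theorem orth_radical : ∀ a b : ZMod 3,
    ((a = 0 ↔ a + b = 0) ∧ (a = 0 ↔ a - b = 0)) → b = 0 := by decide

end Cfsg.Agent.FischerMain.O3
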