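/-
Two charts on the common neighbours of two commuting members.

Main results: `Chart3.transport`, `exists_family`, `local_pattern`, `fibre_unique`.
-/
import Cfsg.Agent.Lib.FischerMain.Setting
import Cfsg.Agent.Lib.FischerMain.O3.Geometry

set_option autoImplicit false

namespace Cfsg.Agent.FischerMain

open Cfsg Cfsg.Agent.ThreeTransRank Cfsg.Agent.ThreeTrans Cfsg.Agent.Orth Cfsg.Agent.FischerMain.O3
open QuadraticMap (polar)

variable {G : Type*} [Group G] {D X : Set G} {n : ℕ} {Q : QuadraticForm (ZMod 3) (Fin n → ZMod 3)}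
  {c : ZMod 3} {ψ : (Fin n → ZMod 3) → G}

namespace Chart3

theorem transport (hch : Chart3 X Q c ψ) (g : G) :
    Chart3 ((fun y => g * y * g⁻¹) '' X) Q c (fun v => g * ψ v * g⁻¹) where
  c_ne := hch.c_ne
  nd := hch.nd
  mem v hv := ⟨_, hch.mem v hv, rfl⟩
  surj := by
    rintro _ ⟨y, hy, rfl⟩
    obtain ⟨v, hv, rfl⟩ := hch.surj y hy
    exact ⟨v, hv, rfl⟩
  eq_iff u v hu hv :=
    ⟨fun e => (hch.eq_iff u v hu hv).1 (mul_left_cancel (mul_right_cancel e)),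
      fun e => by rw [(hch.eq_iff u v hu hv).2 e]⟩
  comm u v hu hv := (commute_conj_iff g).trans (hch.comm u v hu hv)
  conj u v hu hv := by
    simp only [← hch.conj u v hu hv]; group

theorem neg (hch : Chart3 X Q c ψ) {v : Fin n → ZMod 3} (hv : Q v = c) : ψ (-v) = ψ v :=
  ((hch.eq_iff v (-v) hv (by rw [QuadraticMap.map_neg, hv])).2 (Or.inr rfl)).symm

theorem pl_ne_of_eq (hch : Chart3 X Q c ψ) {u v : Fin n → ZMod 3} (hu : Q u = c)
    (h : v = u ∨ v = -u) : polar ⇑Q u v ≠ 0 := by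
  rcases h with rfl | rfl
  · rw [pl_self_norm hu]; exact neg_ne_zero.2 hch.c_ne
  · rw [pl_neg_right, pl_self_norm hu, neg_neg]; exact hch.c_ne

theorem pl_eq_zero (hch : Chart3 X Q c ψ) {u v : Fin n → ZMod 3} (hu : Q u = c) (hv : Q v = c)
    (h : Commute (ψ u) (ψ v)) (hne : ψ u ≠ ψ v) : polar ⇑Q u v = 0 :=
  ((hch.comm u v hu hv).1 h).resolve_right fun e => hne ((hch.eq_iff u v hu hv).2 e)

theorem comm_of_orth (hch : Chart3 X Q c ψ) {u v : Fin n → ZMod 3} (hu : Q u = c) (hv : Q v = c)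
    (h : polar ⇑Q u v = 0) : Commute (ψ u) (ψ v) :=
  (hch.comm u v hu hv).2 (Or.inl h)

theorem not_comm (hch : Chart3 X Q c ψ) {u v : Fin n → ZMod 3} (hu : Q u = c) (hv : Q v = c)
    (h : polar ⇑Q u v ≠ 0) (hne : ψ u ≠ ψ v) : ¬ Commute (ψ u) (ψ v) :=
  fun e => h (hch.pl_eq_zero hu hv e hne)

theorem third (hch : Chart3 X Q c ψ) {p u : Fin n → ZMod 3} (hp : Q p = c) (hu : Q u = 0)
    (hpu : polar ⇑Q p u = 0) :
    Q (p + u) = c ∧ Q (p - u) = c ∧ ψ p * ψ (p + u) * ψ p = ψ (p - u) := by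
  have h1 : Q (p + u) = c := by rw [Q_add, hp, hu, hpu, add_zero, add_zero]
  have h2 : Q (p - u) = c := by rw [Q_sub, hp, hu, hpu, add_zero, sub_zero]
  refine ⟨h1, h2, ?_⟩
  rw [hch.conj p _ hp h1, ← hch.neg h2]
  congr 1
  rw [rv, pl_add_right, pl_self_norm hp, hpu, add_zero, mul_neg,
    inv_mul_cancel₀ hch.c_ne, neg_smul, one_smul, sub_neg_eq_add, neg_sub]
  have e3 : p + p + p = 0 := by
    rw [← two_smul (ZMod 3) p]
    nth_rw 2 [← one_smul (ZMod 3) p]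
    rw [← add_smul, show (2 : ZMod 3) + 1 = 0 by decide, zero_smul]
  calc p + u + p = (p + p + p) + (u - p) := by abel
    _ = u - p := by rw [e3, zero_add]

end Chart3

/-- An orthogonal family orthogonal to a singular vector can be extended to corank three. -/
theorem exists_family (hnd : Q.polarBilin.Nondegenerate) (hc : c ≠ 0) {u : Fin n → ZMod 3} (hu : u ≠ 0)
    {i : ℕ} {p : Fin i → Fin n → ZMod 3} (hp : OrthNorm Q c p) (hpu : ∀ k, polar ⇑Q (p k) u = 0)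
    {j : ℕ} (hij : i ≤ j) (hj : j + 3 ≤ n) :
    ∃ q : Fin j → Fin n → ZMod 3, OrthNorm Q c q ∧ (∀ k, polar ⇑Q (q k) u = 0) ∧ ∀ k, ∃ l, q l = p k := by
  induction j, hij using Nat.le_induction with
  | base => exact ⟨p, hp, hpu, fun k => ⟨k, rfl⟩⟩
  | succ j _ ih =>
    obtain ⟨q, hq, hqu, hsub⟩ := ih (by omega)
    obtain ⟨r, hr, hqr, hur⟩ := exists_orth_norm_singular hnd hc hq (by omega) hu hqu
    refine ⟨Fin.snoc q r, ⟨fun k => ?_, fun k l hkl => ?_⟩, fun k => ?_, fun k => ?_⟩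
    · induction k using Fin.lastCases <;> simp [hr, hq.1]
    · induction k using Fin.lastCases with
      | last =>
        induction l using Fin.lastCases with
        | last => exact absurd rfl hkl
        | cast l => simp only [Fin.snoc_last, Fin.snoc_castSucc]; rw [pl_comm]; exact hqr l
      | cast k =>
        induction l using Fin.lastCases with
        | last => simp only [Fin.snoc_last, Fin.snoc_castSucc]; exact hqr k
        | cast l =>
          simp only [Fin.snoc_castSucc]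
          exact hq.2 k l fun e => hkl (congrArg Fin.castSucc e)
    · induction k using Fin.lastCases with
      | last => simp only [Fin.snoc_last]; rw [pl_comm]; exact hur
      | cast k => simp only [Fin.snoc_castSucc]; exact hqu k
    · obtain ⟨l, hl⟩ := hsub k
      exact ⟨l.castSucc, by rw [Fin.snoc_castSucc, hl]⟩

theorem orthNorm_one {p : Fin n → ZMod 3} (hp : Q p = c) : OrthNorm Q c ![p] :=
  ⟨fun i => by fin_cases i; exact hp, fun i k hik => absurd (Subsingleton.elim i k) hik⟩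

/-- Charts of the neighbours of two commuting members, with the coordinates of each other. -/
structure TwoCharts (D : Set G) (Q : QuadraticForm (ZMod 3) (Fin n → ZMod 3)) (c : ZMod 3) (x v : G)
    (ψ χ : (Fin n → ZMod 3) → G) (v0 a : Fin n → ZMod 3) : Prop where
  hx : x ∈ D
  hv : v ∈ D
  chx : Chart3 (adj D x) Q c ψ
  chv : Chart3 (adj D v) Q c χ
  hv0 : Q v0 = c
  ha : Q a = c
  ev : ψ v0 = v
  ea : χ a = x

namespace TwoCharts

variable {x v : G} {χ : (Fin n → ZMod 3) → G} {v0 a : Fin n → ZMod 3}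

theorem swap (T : TwoCharts D Q c x v ψ χ v0 a) : TwoCharts D Q c v x χ ψ a v0 :=
  ⟨T.hv, T.hx, T.chv, T.chx, T.ha, T.hv0, T.ea, T.ev⟩

variable (T : TwoCharts D Q c x v ψ χ v0 a)
include T

theorem exists_pre {q : Fin n → ZMod 3} (hq : Q q = c) (haq : polar ⇑Q a q = 0) :
    ∃ r, Q r = c ∧ polar ⇑Q v0 r = 0 ∧ ψ r = χ q := by
  have hm := T.chv.mem q hq
  have hcx : Commute x (χ q) := by rw [← T.ea]; exact T.chv.comm_of_orth T.ha hq haq
  have hne : χ q ≠ x := fun e => T.chv.pl_ne_of_eq T.ha ((T.chv.eq_iff a q T.ha hq).1 (T.ea.trans e.symm)) haq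
  obtain ⟨r, hr, e⟩ := T.chx.surj (χ q) ⟨hm.1, hne, hcx⟩
  refine ⟨r, hr, T.chx.pl_eq_zero T.hv0 hr ?_ ?_, e⟩
  · rw [T.ev, e]; exact hm.2.2
  · rw [T.ev, e]; exact hm.2.1.symm

theorem exists_line {u1 p : Fin n → ZMod 3} (hu1 : u1 ≠ 0) (hQu1 : Q u1 = 0)
    (hau : polar ⇑Q a u1 = 0) (hp : Q p = c) (hap : polar ⇑Q a p = 0) (hpu : polar ⇑Q p u1 = 0) :
    ∃ w u, Q w = c ∧ polar ⇑Q v0 w = 0 ∧ u ≠ 0 ∧ Q u = 0 ∧ polar ⇑Q v0 u = 0 ∧ polar ⇑Q w u = 0 ∧
      ψ w = χ p ∧ ψ (w + u) = χ (p + u1) ∧ ψ (w - u) = χ (p - u1) := by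
  obtain ⟨h1, h2, h3⟩ := T.chv.third hp hQu1 hpu
  obtain ⟨w, hw, hvw, ew⟩ := T.exists_pre hp hap
  obtain ⟨w', hw', hvw', ew'⟩ := T.exists_pre h1 (by rw [pl_add_right, hap, hau, add_zero])
  have hne : χ p ≠ χ (p + u1) := fun e => by
    rcases (T.chv.eq_iff _ _ hp h1).1 e with e' | e'
    · exact hu1 (add_eq_left.1 e')
    · have h4 := congrArg (polar ⇑Q p) e'
      rw [pl_add_right, hpu, add_zero, pl_neg_right, pl_self_norm hp, neg_neg] at h4
      exact T.chv.c_ne ((show ∀ x : ZMod 3, -x = x → x = 0 by decide) c h4)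
  have hB : polar ⇑Q w w' ≠ 0 := fun e => by
    have h4 := T.chx.comm_of_orth hw hw' e
    rw [ew, ew'] at h4
    have h5 := T.chv.pl_eq_zero hp h1 h4 hne
    rw [pl_add_right, pl_self_norm hp, hpu, add_zero, neg_eq_zero] at h5
    exact T.chv.c_ne h5
  obtain ⟨u, hu, hQu, hwu, hor⟩ := exists_line_radical T.chv.c_ne hw hw' hB
    (fun e => hne (by rw [← ew, ← ew', e]))
    (fun e => hne (by rw [← ew, ← ew', e, T.chx.neg hw]))
  obtain ⟨g1, g2, g3⟩ := T.chx.third hw hQu hwu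
  have eu : ψ (w + u) = χ (p + u1) := by
    rw [← ew']
    rcases hor with rfl | rfl
    · rfl
    · exact (T.chx.neg g1).symm
  refine ⟨w, u, hw, hvw, hu, hQu, ?_, hwu, ew, eu, by rw [← g3, ← h3, ew, eu]⟩
  rcases hor with rfl | rfl
  · rwa [pl_add_right, hvw, zero_add] at hvw'
  · rwa [pl_neg_right, pl_add_right, hvw, zero_add, neg_eq_zero] at hvw'

theorem image_orth {u1 p q w u r : Fin n → ZMod 3} (hQu1 : Q u1 = 0) (hp : Q p = c)
    (hpu : polar ⇑Q p u1 = 0) (hw : Q w = c) (hQu : Q u = 0) (hwu : polar ⇑Q w u = 0)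
    (e1 : ψ w = χ p) (e2 : ψ (w + u) = χ (p + u1)) (e3 : ψ (w - u) = χ (p - u1))
    (hq : Q q = c) (hqu : polar ⇑Q q u1 = 0) (hr : Q r = c) (er : ψ r = χ q) : polar ⇑Q r u = 0 := by
  obtain ⟨g1, g2, -⟩ := T.chx.third hw hQu hwu
  obtain ⟨h1, h2, -⟩ := T.chv.third hp hQu1 hpu
  have side : ∀ (k y : Fin n → ZMod 3), Q k = c → polar ⇑Q k u = 0 → ψ r = ψ k → polar ⇑Q r u = 0 := by
    intro k _ hk hku e
    rcases (T.chx.eq_iff k r hk hr).1 e.symm with rfl | rfl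
    · exact hku
    · rw [pl_neg_left, hku, neg_zero]
  by_cases c1 : χ q = χ p
  · exact side w w hw hwu (by rw [er, c1, e1])
  by_cases c2 : χ q = χ (p + u1)
  · exact side (w + u) u g1 (by rw [pl_add_left, hwu, pl_self, hQu, mul_zero, add_zero]) (by rw [er, c2, e2])
  by_cases c3 : χ q = χ (p - u1)
  · exact side (w - u) u g2 (by rw [pl_sub_left, hwu, pl_self, hQu, mul_zero, sub_zero]) (by rw [er, c3, e3])
  have key : ∀ {k l : Fin n → ZMod 3}, Q k = c → Q l = c → ψ k = χ l → χ q ≠ χ l →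
      (polar ⇑Q r k = 0 ↔ polar ⇑Q q l = 0) := by
    intro k l hk hl e hne
    constructor
    · intro h0
      have := T.chx.comm_of_orth hr hk h0
      rw [er, e] at this
      exact T.chv.pl_eq_zero hq hl this hne
    · intro h0
      have := T.chv.comm_of_orth hq hl h0
      rw [← er, ← e] at this
      exact T.chx.pl_eq_zero hr hk this (by rwa [er, e])
  refine orth_radical (polar ⇑Q r w) _ ⟨?_, ?_⟩
  · rw [key hw hp e1 c1, ← pl_add_right, key g1 h1 e2 c2, pl_add_right, hqu, add_zero]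
  · rw [key hw hp e1 c1, ← pl_sub_right, key g2 h2 e3 c3, pl_sub_right, hqu, sub_zero]

/-- The image of a perpendicular set of a singular vector, with a witnessing family. -/
theorem local_sub (hn : 5 ≤ n) {u1 : Fin n → ZMod 3} (hu1 : u1 ≠ 0) (hQu1 : Q u1 = 0)
    (hau : polar ⇑Q a u1 = 0) :
    ∃ u, u ≠ 0 ∧ Q u = 0 ∧ polar ⇑Q v0 u = 0 ∧
      ∀ q r, Q q = c → polar ⇑Q a q = 0 → polar ⇑Q q u1 = 0 → Q r = c → ψ r = χ q → polar ⇑Q r u = 0 := by
  classical
  obtain ⟨P, hP, hPu, hPa⟩ := exists_family T.chv.nd T.chv.c_ne hu1 (orthNorm_one T.ha)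
    (fun k => by fin_cases k; exact hau) (j := n - 3) (by omega) (by omega)
  obtain ⟨ia, hia⟩ := hPa 0
  simp only [Matrix.cons_val_zero] at hia
  have hline : ∀ k, k ≠ ia → ∃ w u, Q w = c ∧ polar ⇑Q v0 w = 0 ∧ u ≠ 0 ∧ Q u = 0 ∧
      polar ⇑Q v0 u = 0 ∧ polar ⇑Q w u = 0 ∧ ψ w = χ (P k) ∧ ψ (w + u) = χ (P k + u1) ∧
      ψ (w - u) = χ (P k - u1) := fun k hk =>
    T.exists_line hu1 hQu1 hau (hP.1 k) (by rw [← hia]; exact hP.2 ia k (Ne.symm hk)) (hPu k)
  obtain ⟨k0, hk0⟩ : ∃ k0, k0 ≠ ia := by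
    by_contra hcon
    simp only [not_exists, not_not] at hcon
    have h1 := (hcon ⟨0, by omega⟩).trans (hcon ⟨1, by omega⟩).symm
    exact Nat.zero_ne_one (congrArg Fin.val h1)
  choose W U hW using hline
  let W' : Fin (n - 3) → Fin n → ZMod 3 := fun k => if hk : k = ia then v0 else W k hk
  have hW'1 : ∀ k, Q (W' k) = c := fun k => by
    by_cases hk : k = ia
    · simp [W', hk, T.hv0]
    · simp [W', hk, (hW k hk).1]
  have horth : OrthNorm Q c W' := by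
    refine ⟨hW'1, fun k l hkl => ?_⟩
    by_cases hk : k = ia
    · subst hk
      simp [W', Ne.symm hkl, (hW l (Ne.symm hkl)).2.1]
    by_cases hl : l = ia
    · subst hl
      simp only [W', dif_pos, dif_neg hk]
      rw [pl_comm]
      exact (hW k hk).2.1
    · simp only [W', dif_neg hk, dif_neg hl]
      obtain ⟨hk1, -, -, -, -, -, hk7, -⟩ := hW k hk
      obtain ⟨hl1, -, -, -, -, -, hl7, -⟩ := hW l hl
      have hc := T.chv.comm_of_orth (hP.1 k) (hP.1 l) (hP.2 k l hkl)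
      rw [← hk7, ← hl7] at hc
      refine T.chx.pl_eq_zero hk1 hl1 hc fun e => ?_
      rw [hk7, hl7] at e
      exact T.chv.pl_ne_of_eq (hP.1 k) ((T.chv.eq_iff _ _ (hP.1 k) (hP.1 l)).1 e) (hP.2 k l hkl)
  obtain ⟨hw0, -, hu0, hQu0, hvu0, hwu0, e01, e02, e03⟩ := hW k0 hk0
  refine ⟨U k0 hk0, hu0, hQu0, hvu0, fun q r hq _ hqu hr er =>
    T.image_orth hQu1 (hP.1 k0) (hPu k0) hw0 hQu0 hwu0 e01 e02 e03 hq hqu hr er⟩

/-- The image of the perpendicular set of a singular vector is such a set. -/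
theorem local_eq (hn : 5 ≤ n) {u1 : Fin n → ZMod 3} (hu1 : u1 ≠ 0) (hQu1 : Q u1 = 0)
    (hau : polar ⇑Q a u1 = 0) :
    ∃ u, u ≠ 0 ∧ Q u = 0 ∧ polar ⇑Q v0 u = 0 ∧
      ∀ q r, Q q = c → polar ⇑Q a q = 0 → Q r = c → ψ r = χ q →
        (polar ⇑Q q u1 = 0 ↔ polar ⇑Q r u = 0) := by
  classical
  obtain ⟨u, hu, hQu, hvu, hsub⟩ := T.local_sub hn hu1 hQu1 hau
  refine ⟨u, hu, hQu, hvu, fun q r hq haq hr er => ⟨fun hqu => hsub q r hq haq hqu hr er, fun hru => ?_⟩⟩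
  obtain ⟨u2, hu2, hQu2, hau2, hsub2⟩ := T.swap.local_sub hn hu hQu hvu
  obtain ⟨P, hP, hPu, hPa⟩ := exists_family T.chv.nd T.chv.c_ne hu1 (orthNorm_one T.ha)
    (fun k => by fin_cases k; exact hau) (j := n - 3) (by omega) (by omega)
  obtain ⟨ia, hia⟩ := hPa 0
  simp only [Matrix.cons_val_zero] at hia
  have mem : ∀ p, Q p = c → polar ⇑Q a p = 0 → polar ⇑Q p u1 = 0 → polar ⇑Q p u2 = 0 := by
    intro p hp hap hpu
    obtain ⟨w, hw, hvw, ew⟩ := T.exists_pre hp hap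
    exact hsub2 w p hw hvw (hsub p w hp hap hpu hw ew) hp ew.symm
  have hPu2 : ∀ k, polar ⇑Q (P k) u2 = 0 := fun k => by
    by_cases hk : k = ia
    · rw [hk, hia]; exact hau2
    · exact mem _ (hP.1 k) (by rw [← hia]; exact hP.2 ia k (Ne.symm hk)) (hPu k)
  obtain ⟨k0, hk0⟩ : ∃ k0, k0 ≠ ia := by
    by_contra hcon
    simp only [not_exists, not_not] at hcon
    have h1 := (hcon ⟨0, by omega⟩).trans (hcon ⟨1, by omega⟩).symm
    exact Nat.zero_ne_one (congrArg Fin.val h1)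
  have h12 : polar ⇑Q u1 u2 = 0 := by
    have hap : polar ⇑Q a (P k0) = 0 := by rw [← hia]; exact hP.2 ia k0 (Ne.symm hk0)
    have := mem (P k0 + u1) (T.chv.third (hP.1 k0) hQu1 (hPu k0)).1
      (by rw [pl_add_right, hap, hau, add_zero])
      (by rw [pl_add_left, hPu k0, pl_self, hQu1, mul_zero, add_zero])
    rwa [pl_add_left, hPu2 k0, zero_add] at this
  obtain ⟨t, ht⟩ := singular_unique T.chv.nd T.chv.c_ne hP (by omega) hu2 hQu2 hQu1
    (by rw [pl_comm, h12]) hPu2 hPu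
  rw [ht, pl_smul_right, hsub2 r q hr ?_ hru hq er.symm, mul_zero]
  obtain ⟨r', hr', hvr', er'⟩ := T.exists_pre hq haq
  rcases (T.chx.eq_iff r' r hr' hr).1 (er'.trans er.symm) with rfl | rfl
  · exact hvr'
  · rw [pl_neg_right, hvr', neg_zero]

end TwoCharts

section point

variable [Finite G] (h : Base D) {x z : G} (hx : x ∈ D) (hch : Chart3 (adj D x) Q c ψ)
  (hz : z ∈ nonc D x) {v0 : Fin n → ZMod 3}
include h hx hch hz

theorem exists_twoCharts (hv0 : Q v0 = c) (hvz : Commute (ψ v0) z) :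
    ∃ χ a u1, TwoCharts D Q c x (ψ v0) ψ χ v0 a ∧ u1 ≠ 0 ∧ Q u1 = 0 ∧ polar ⇑Q a u1 = 0 ∧
      z = χ (a + u1) := by
  have hv := hch.mem v0 hv0
  obtain ⟨g, hg⟩ := class_conj h.cls hx hv.1
  have hc' := hch.transport g
  rw [← adj_conj_image h.conj, hg] at hc'
  have hxv : x ∈ adj D (ψ v0) := mem_adj_symm hx hv
  have hzv : z ∈ adj D (ψ v0) := ⟨hz.1, fun e => hz.2 (by rw [e]; exact hv.2.2), hvz⟩
  obtain ⟨a, ha, ea⟩ := hc'.surj x hxv
  obtain ⟨b, hb, eb⟩ := hc'.surj z hzv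
  have hne : x ≠ z := fun e => hz.2 (e ▸ Commute.refl x)
  have hab : polar ⇑Q a b ≠ 0 := fun e => hz.2 (by rw [← ea, ← eb]; exact hc'.comm_of_orth ha hb e)
  obtain ⟨u1, hu1, hQu1, hau, hor⟩ := exists_line_radical hch.c_ne ha hb hab
    (fun e => hne (by rw [← ea, ← eb, e]))
    (fun e => hne (by rw [← ea, ← eb, e, hc'.neg ha]))
  refine ⟨_, a, u1, ⟨hx, hv.1, hch, hc', hv0, ha, rfl, ea⟩, hu1, hQu1, hau, ?_⟩
  rcases hor with rfl | rfl
  · exact eb.symm
  · rw [← eb]; exact hc'.neg (hc'.third ha hQu1 hau).1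

theorem comm_z_iff {χ : (Fin n → ZMod 3) → G} {a u1 p : Fin n → ZMod 3}
    (T : TwoCharts D Q c x (ψ v0) ψ χ v0 a) (hQu1 : Q u1 = 0) (hau : polar ⇑Q a u1 = 0)
    (ez : z = χ (a + u1)) (hp : Q p = c) (hap : polar ⇑Q a p = 0) :
    Commute (χ p) z ↔ polar ⇑Q p u1 = 0 := by
  have h1 := (T.chv.third T.ha hQu1 hau).1
  rw [ez, T.chv.comm p (a + u1) hp h1, pl_add_right, pl_comm Q p a, hap, zero_add]
  refine ⟨fun e => e.resolve_right fun e' => ?_, Or.inl⟩
  rcases e' with e' | e' <;>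
    [rw [← e', pl_add_right, pl_self_norm T.ha, hau, add_zero] at hap;
      rw [← neg_neg p, ← e', pl_neg_right, pl_add_right, pl_self_norm T.ha, hau, add_zero, neg_eq_zero] at hap] <;>
    exact hch.c_ne (neg_eq_zero.1 hap)

/-- Around a member commuting with `x` and `z`, the members commuting with `z` are those perpendicular
to a singular vector. -/
theorem local_pattern (hn : 5 ≤ n) (hv0 : Q v0 = c) (hvz : Commute (ψ v0) z) :
    ∃ u, u ≠ 0 ∧ Q u = 0 ∧ polar ⇑Q v0 u = 0 ∧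
      ∀ w, Q w = c → polar ⇑Q v0 w = 0 → (Commute (ψ w) z ↔ polar ⇑Q w u = 0) := by
  obtain ⟨χ, a, u1, T, hu1, hQu1, hau, ez⟩ := exists_twoCharts h hx hch hz hv0 hvz
  obtain ⟨u, hu, hQu, hvu, heq⟩ := T.local_eq hn hu1 hQu1 hau
  refine ⟨u, hu, hQu, hvu, fun w hw hvw => ?_⟩
  obtain ⟨p, hp, hap, ep⟩ := T.swap.exists_pre hw hvw
  rw [← ep, comm_z_iff h hx hch hz T hQu1 hau ez hp hap, heq p w hp hap hw ep.symm]

/-- A member commuting with `x`, and what commutes with both, determine `z` up to conjugation by `x`. -/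
theorem fibre_unique (hn : 5 ≤ n) (hv0 : Q v0 = c) (hvz : Commute (ψ v0) z) {z' : G}
    (hz' : z' ∈ nonc D x) (hvz' : Commute (ψ v0) z')
    (hsame : ∀ w, Q w = c → polar ⇑Q v0 w = 0 → (Commute (ψ w) z' ↔ Commute (ψ w) z)) :
    z' = z ∨ z' = x * z * x := by
  obtain ⟨χ, a, u1, T, hu1, hQu1, hau, ez⟩ := exists_twoCharts h hx hch hz hv0 hvz
  have hzv : z' ∈ adj D (ψ v0) := ⟨hz'.1, fun e => hz'.2 (by rw [e]; exact (hch.mem v0 hv0).2.2), hvz'⟩
  obtain ⟨b, hb, eb⟩ := T.chv.surj z' hzv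
  have hne : x ≠ z' := fun e => hz'.2 (e ▸ Commute.refl x)
  have hab : polar ⇑Q a b ≠ 0 := fun e => hz'.2 (by rw [← T.ea, ← eb]; exact T.chv.comm_of_orth T.ha hb e)
  obtain ⟨u2, hu2, hQu2, hau2, hor⟩ := exists_line_radical hch.c_ne T.ha hb hab
    (fun e => hne (by rw [← T.ea, ← eb, e]))
    (fun e => hne (by rw [← T.ea, ← eb, e, T.chv.neg T.ha]))
  have ez' : z' = χ (a + u2) := by
    rcases hor with rfl | rfl
    · exact eb.symm
    · rw [← eb]; exact T.chv.neg (T.chv.third T.ha hQu2 hau2).1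
  have sub : ∀ p, Q p = c → polar ⇑Q a p = 0 → polar ⇑Q p u1 = 0 → polar ⇑Q p u2 = 0 := by
    intro p hp hap hpu
    obtain ⟨w, hw, hvw, ew⟩ := T.exists_pre hp hap
    refine (comm_z_iff h hx hch hz' T hQu2 hau2 ez' hp hap).1 ?_
    rw [← ew, hsame w hw hvw, ew]
    exact (comm_z_iff h hx hch hz T hQu1 hau ez hp hap).2 hpu
  obtain ⟨P, hP, hPu, hPa⟩ := exists_family T.chv.nd hch.c_ne hu1 (orthNorm_one T.ha)
    (fun k => by fin_cases k; exact hau) (j := n - 3) (by omega) (by omega)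
  obtain ⟨ia, hia⟩ := hPa 0
  simp only [Matrix.cons_val_zero] at hia
  have hPu2 : ∀ k, polar ⇑Q (P k) u2 = 0 := fun k => by
    by_cases hk : k = ia
    · rw [hk, hia]; exact hau2
    · exact sub _ (hP.1 k) (by rw [← hia]; exact hP.2 ia k (Ne.symm hk)) (hPu k)
  obtain ⟨k0, hk0⟩ : ∃ k0, k0 ≠ ia := by
    by_contra hcon
    simp only [not_exists, not_not] at hcon
    have h1 := (hcon ⟨0, by omega⟩).trans (hcon ⟨1, by omega⟩).symm
    exact Nat.zero_ne_one (congrArg Fin.val h1)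
  have hap : polar ⇑Q a (P k0) = 0 := by rw [← hia]; exact hP.2 ia k0 (Ne.symm hk0)
  have h12 : polar ⇑Q u1 u2 = 0 := by
    have := sub (P k0 + u1) (T.chv.third (hP.1 k0) hQu1 (hPu k0)).1
      (by rw [pl_add_right, hap, hau, add_zero])
      (by rw [pl_add_left, hPu k0, pl_self, hQu1, mul_zero, add_zero])
    rwa [pl_add_left, hPu2 k0, zero_add] at this
  obtain ⟨t, rfl⟩ := singular_unique T.chv.nd hch.c_ne hP (by omega) hu1 hQu1 hQu2 h12 hPu hPu2
  rcases z3_cases t 1 one_ne_zero with rfl | rfl | rfl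
  · exact absurd (zero_smul _ _) hu2
  · left; rw [ez', ez, one_smul]
  · right
    rw [ez', neg_smul, one_smul, ← sub_eq_add_neg, ← (T.chv.third T.ha hQu1 hau).2.2, T.ea, ← ez]

end point

end Cfsg.Agent.FischerMain
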