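/-
The members commuting with two noncommuting ones, inside an orthogonal chart.

Main result: `exists_pattern`: for `z` not commuting with `x` they are the points perpendicular to a
singular vector.
-/
import Cfsg.Agent.Lib.FischerMain.O3.Local

set_option autoImplicit false

namespace Cfsg.Agent.FischerMain

open Cfsg Cfsg.Agent.ThreeTransRank Cfsg.Agent.ThreeTrans Cfsg.Agent.Orth Cfsg.Agent.FischerMain.O3
open QuadraticMap (polar)

variable {G : Type*} [Group G] {D : Set G} {n : ℕ} {Q : QuadraticForm (ZMod 3) (Fin n → ZMod 3)}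
  {c : ZMod 3} {ψ : (Fin n → ZMod 3) → G}

/-! ### reflections -/

theorem rv_self_adj (r y t : Fin n → ZMod 3) :
    polar ⇑Q (rv Q c r y) t = polar ⇑Q y (rv Q c r t) := by
  simp only [rv, pl_sub_left, pl_sub_right, pl_smul_left, pl_smul_right, pl_comm Q y r]
  ring

theorem rv_perp {r u : Fin n → ZMod 3} (hru : polar ⇑Q r u = 0) (y : Fin n → ZMod 3) :
    polar ⇑Q (rv Q c r y) u = polar ⇑Q y u := by
  rw [rv, pl_sub_left, pl_smul_left, hru, mul_zero, sub_zero]

theorem rv_fix {r y : Fin n → ZMod 3} (h : polar ⇑Q r y = 0) : rv Q c r y = y := by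
  rw [rv, h, mul_zero, zero_smul, sub_zero]

/-- Two reflections in the points of a line through a singular point. -/
theorem rv_pair (hc : c ≠ 0) {p u : Fin n → ZMod 3} (hp : Q p = c) (hpu : polar ⇑Q p u = 0)
    (y : Fin n → ZMod 3) :
    rv Q c p (rv Q c (p + u) y) =
      y + (c⁻¹ * polar ⇑Q u y) • p - (c⁻¹ * (polar ⇑Q p y + polar ⇑Q u y)) • u := by
  simp only [rv, pl_add_left, pl_sub_right, pl_smul_right, pl_add_right, pl_self_norm hp, hpu, add_zero]
  have h2 : (c⁻¹ * (polar ⇑Q p y - c⁻¹ * (polar ⇑Q p y + polar ⇑Q u y) * -c)) =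
      -(c⁻¹ * (polar ⇑Q p y + polar ⇑Q u y)) - c⁻¹ * polar ⇑Q u y := by
    field_simp
    linear_combination polar ⇑Q p y * CharP.cast_eq_zero (ZMod 3) 3 +
      polar ⇑Q u y * CharP.cast_eq_zero (ZMod 3) 3
  rw [h2]
  module

/-! ### four members forming a path -/

theorem path_facts [Finite G] (h : Base D) {x z R R' : G} (hx : x ∈ D) (hz : z ∈ D) (hR : R ∈ D)
    (hR' : R' ∈ D) (c2 : Commute x R') (c3 : Commute R R') (n0 : ¬ Commute x z)
    (n1 : ¬ Commute R z) (n2 : ¬ Commute R' z) (c1 : Commute x R) (hne : R ≠ R') (hne' : R' ≠ x) :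
    let a := R * z * R; let b := R' * z * R'; let v := a * b * x * (b * a)
    Commute a b ∧ v ∈ D ∧ v ≠ x ∧ Commute v x ∧ v * a * v = x * b * x ∧ Commute R v ∧ v ≠ R := by
  intro a b v
  have hD := h.set
  have sR := mul_self hD hR
  have sR' := mul_self hD hR'
  have sx := mul_self hD hx
  have sz := mul_self hD hz
  have ea : a = z * R * z := braid hD hR hz n1
  have eb : b = z * R' * z := braid hD hR' hz n2
  have haD : a ∈ D := by
    have := h.conj R z hz; rwa [inv_eq hD hR] at this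
  have hbD : b ∈ D := by
    have := h.conj R' z hz; rwa [inv_eq hD hR'] at this
  have sa := mul_self hD haD
  have sb := mul_self hD hbD
  have hab : Commute a b := by
    show a * b = b * a
    rw [ea, eb]
    simp only [mul_assoc, mul_self_cancel hD hz]
    rw [← mul_assoc R, c3.eq, mul_assoc R']
  have hxa : ¬ Commute x a := fun e => n0 <| by
    have e' := (commute_conj_iff (G := G) R).2 e
    have e1 : R * x * R⁻¹ = x := by rw [← c1.eq, mul_inv_cancel_right]
    rwa [e1, show R * a * R⁻¹ = z by simp only [a, mul_assoc, mul_inv_cancel, mul_one, mul_self_cancel hD hR]]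
      at e'
  have hxb : ¬ Commute x b := fun e => n0 <| by
    have e' := (commute_conj_iff (G := G) R').2 e
    have e1 : R' * x * R'⁻¹ = x := by rw [← c2.eq, mul_inv_cancel_right]
    rwa [e1, show R' * b * R'⁻¹ = z by
      simp only [b, mul_assoc, mul_inv_cancel, mul_one, mul_self_cancel hD hR']] at e'
  have bxb : b * x * b = x * b * x := (braid hD hx hbD hxb).symm
  have axa : a * x * a = x * a * x := (braid hD hx haD hxa).symm
  have aba : a * b * a = b := by rw [hab.eq, mul_assoc, sa, mul_one]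
  have hv : v = a * (x * b * x) * a := by
    show a * b * x * (b * a) = _
    rw [← bxb]; simp only [mul_assoc]
  have hvD : v ∈ D := by
    have := h.conj (a * b) x hx
    rwa [mul_inv_rev, inv_eq hD haD, inv_eq hD hbD] at this
  have hvx : v ≠ x := fun e => hne <| by
    have e2 : x * b * x = x * a * x := by
      calc x * b * x = a * v * a := by rw [hv]; simp only [mul_assoc, sa, mul_one, mul_self_cancel hD haD]
        _ = x * a * x := by rw [e, axa]
    have e3 : b = a := mul_left_cancel (mul_right_cancel e2)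
    rw [ea, eb] at e3
    exact (mul_left_cancel (mul_right_cancel e3)).symm
  have hcx : Commute v x := by
    have e : x * v * x = v := by
      calc x * v * x = (x * a * x) * b * (x * a * x) := by rw [hv]; simp only [mul_assoc]
        _ = (a * x * a) * b * (a * x * a) := by rw [axa]
        _ = a * x * (a * b * a) * x * a := by simp only [mul_assoc]
        _ = v := by rw [aba, hv]; simp only [mul_assoc]
    show v * x = x * v
    conv_lhs => rw [← e]
    rw [mul_assoc _ x x, sx, mul_one]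
  have hvav : v * a * v = x * b * x := by
    calc v * a * v = a * x * b * (x * a * x) * b * x * a := by
          rw [hv]; simp only [mul_assoc, mul_self_cancel hD haD]
      _ = a * x * b * (a * x * a) * b * x * a := by rw [axa]
      _ = a * x * (b * a) * x * (a * b) * x * a := by simp only [mul_assoc]
      _ = a * x * (a * b) * x * (b * a) * x * a := by rw [hab.eq]
      _ = a * x * a * (b * x * b) * a * x * a := by simp only [mul_assoc]
      _ = (a * x * a) * (x * b * x) * (a * x * a) := by rw [bxb]; simp only [mul_assoc]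
      _ = x * (a * b * a) * x := by
          rw [axa]; simp only [mul_assoc, mul_self_cancel hD hx]
      _ = x * b * x := by rw [aba]
  have k1 : R * (a * b) = a * b * R' := by
    calc R * (a * b) = R * z * R * R' * z := by
          rw [ea, eb]; simp only [mul_assoc, mul_self_cancel hD hz]
      _ = z * R * (z * R' * z) := by rw [braid hD hR hz n1]; simp only [mul_assoc]
      _ = z * R * (R' * z * R') := by rw [← braid hD hR' hz n2]
      _ = a * b * R' := by rw [ea, eb]; simp only [mul_assoc, mul_self_cancel hD hz]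
  have k2 : b * a * R = R' * (b * a) := by
    calc b * a * R = z * R' * (R * z * R) := by
          rw [ea, eb]; simp only [mul_assoc, mul_self_cancel hD hz]
      _ = (z * R' * z) * R * z := by rw [braid hD hR hz n1]; simp only [mul_assoc]
      _ = (R' * z * R') * R * z := by rw [← braid hD hR' hz n2]
      _ = R' * (b * a) := by rw [ea, eb]; simp only [mul_assoc, mul_self_cancel hD hz]
  have hcR : Commute R v := by
    have e : R * v * R = v := by
      calc R * v * R = R * (a * b) * x * (b * a * R) := by simp only [v, mul_assoc]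
        _ = a * b * (R' * x * R') * (b * a) := by rw [k1, k2]; simp only [mul_assoc]
        _ = v := by rw [← c2.eq, mul_assoc x, sR', mul_one]
    show R * v = v * R
    conv_rhs => rw [← e]
    rw [mul_assoc _ R R, sR, mul_one]
  refine ⟨hab, hvD, hvx, hcx, hvav, hcR, fun e => hne' ?_⟩
  have e2 : x * b * x = z := by
    rw [← hvav, e]; simp only [a, mul_assoc, mul_self_cancel hD hR, sR, mul_one]
  have e3 : b = x * z * x := by
    rw [← e2]; simp only [mul_assoc, mul_self_cancel hD hx, sx, mul_one]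
  rw [eb, braid hD hx hz n0] at e3
  exact mul_left_cancel (mul_right_cancel e3)

/-! ### the pattern -/

/-- Around `v`, the members commuting with `z` are the points perpendicular to `u`. -/
def Rad (Q : QuadraticForm (ZMod 3) (Fin n → ZMod 3)) (c : ZMod 3) (ψ : (Fin n → ZMod 3) → G) (z : G)
    (v u : Fin n → ZMod 3) : Prop :=
  u ≠ 0 ∧ Q u = 0 ∧ polar ⇑Q v u = 0 ∧
    ∀ w, Q w = c → polar ⇑Q v w = 0 → (Commute (ψ w) z ↔ polar ⇑Q w u = 0)

theorem Rad.of_smul {z : G} {v u : Fin n → ZMod 3} {t : ZMod 3} (hu : u ≠ 0) (hQu : Q u = 0)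
    (h : Rad Q c ψ z v (t • u)) : Rad Q c ψ z v u := by
  obtain ⟨h1, -, h3, h4⟩ := h
  have ht : t ≠ 0 := fun e => h1 (by rw [e, zero_smul])
  have key : ∀ w, polar ⇑Q w (t • u) = 0 ↔ polar ⇑Q w u = 0 := fun w => by
    rw [pl_smul_right, mul_eq_zero, or_iff_right ht]
  exact ⟨hu, hQu, (key v).1 h3, fun w hw hvw => (h4 w hw hvw).trans (key w)⟩

/-- No three orthogonal unit vectors for a form of determinant minus one. -/
theorem no_triple : ∀ a b d : ZMod 3, a * a + b * b - d * d = 1 →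
    ∀ a' b' d' : ZMod 3, a' * a' + b' * b' - d' * d' = 1 → a * a' + b * b' - d * d' = 0 →
      ∀ a'' b'' d'' : ZMod 3, a'' * a'' + b'' * b'' - d'' * d'' = 1 →
        a * a'' + b * b'' - d * d'' = 0 → a' * a'' + b' * b'' - d' * d'' = 0 → False := by
  decide +kernel

section point

variable [Finite G] (h : Base D) {x z : G} (hx : x ∈ D) (hch : Chart3 (adj D x) Q c ψ)
  (hz : z ∈ nonc D x)

include h hch in
theorem conj_psi {r v : Fin n → ZMod 3} (hr : Q r = c) (hv : Q v = c) :
    ψ r * ψ v * (ψ r)⁻¹ = ψ (rv Q c r v) := by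
  rw [inv_eq h.set (hch.mem r hr).1, hch.conj r v hr hv]

include h hch hx hz in
theorem comm_xzx_iff {v : Fin n → ZMod 3} (hv : Q v = c) :
    Commute (ψ v) (x * z * x) ↔ Commute (ψ v) z := by
  have e : x * ψ v * x⁻¹ = ψ v := by rw [(hch.mem v hv).2.2.eq, mul_inv_cancel_right]
  have e' : x * z * x⁻¹ = x * z * x := by rw [inv_eq h.set hx]
  have := commute_conj_iff x (a := ψ v) (b := z)
  rwa [e, e'] at this

include h hx hch hz

theorem rad_exists (hn : 5 ≤ n) {v : Fin n → ZMod 3} (hv : Q v = c) (hvz : Commute (ψ v) z) :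
    ∃ u, Rad Q c ψ z v u :=
  local_pattern h hx hch hz hn hv hvz

/-- Two orthogonal members commuting with `z` share their singular point. -/
theorem rad_coherent (hn : 5 ≤ n) {v w u u' : Fin n → ZMod 3} (hv : Q v = c) (hvz : Commute (ψ v) z)
    (hw : Q w = c) (hwz : Commute (ψ w) z) (hvw : polar ⇑Q v w = 0) (hu : Rad Q c ψ z v u)
    (hu' : Rad Q c ψ z w u') : ∃ t : ZMod 3, u' = t • u := by
  obtain ⟨hu0, hQu, hvu, hM⟩ := hu
  obtain ⟨hu0', hQu', hwu', hM'⟩ := hu'
  have hc := hch.c_ne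
  have hwu : polar ⇑Q w u = 0 := (hM w hw hvw).1 hwz
  have hwv : polar ⇑Q w v = 0 := by rw [pl_comm]; exact hvw
  have hvu' : polar ⇑Q v u' = 0 := (hM' v hv hwv).1 hvz
  have hp : OrthNorm Q c ![v, w] := ⟨fun i => by fin_cases i <;> assumption, fun i k hik => by
    fin_cases i <;> fin_cases k <;> first | exact absurd rfl hik | simpa using hvw | simpa using hwv⟩
  have hpu : ∀ k, polar ⇑Q (![v, w] k) u = 0 := fun k => by fin_cases k <;> assumption
  have hpu' : ∀ k, polar ⇑Q (![v, w] k) u' = 0 := fun k => by fin_cases k <;> assumption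
  by_cases huu : polar ⇑Q u u' = 0
  · obtain ⟨P, hP, hPu, hPs⟩ := exists_family hch.nd hc hu0 hp hpu (j := n - 3) (by omega) (by omega)
    obtain ⟨iv, hiv⟩ := hPs 0
    obtain ⟨iw, hiw⟩ := hPs 1
    refine singular_unique hch.nd hc hP (by omega) hu0 hQu hQu' huu hPu fun k => ?_
    by_cases hk : k = iw
    · rw [hk, hiw]; exact hwu'
    by_cases hk' : k = iv
    · rw [hk', hiv]; exact hvu'
    have hvk : polar ⇑Q v (P k) = 0 := by
      have := hP.2 iv k (Ne.symm hk'); rwa [hiv] at this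
    have hwk : polar ⇑Q w (P k) = 0 := by
      have := hP.2 iw k (Ne.symm hk); rwa [hiw] at this
    exact (hM' _ (hP.1 k) hwk).1 ((hM _ (hP.1 k) hvk).2 (hPu k))
  exfalso
  have noq : ∀ q, Q q = c → polar ⇑Q v q = 0 → polar ⇑Q w q = 0 → polar ⇑Q u q = 0 → False := by
    intro q hq hvq hwq huq
    have hqu : polar ⇑Q q u = 0 := by rw [pl_comm]; exact huq
    have h1 := (hM' q hq hwq).1 ((hM q hq hvq).2 hqu)
    have hq' : Q (q + u) = c := (hch.third hq hQu hqu).1
    have h2 := (hM' _ hq' (by rw [pl_add_right, hwq, hwu, add_zero])).1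
      ((hM _ hq' (by rw [pl_add_right, hvq, hvu, add_zero])).2
        (by rw [pl_add_left, hqu, pl_self, hQu, mul_zero, add_zero]))
    rw [pl_add_left, h1, zero_add] at h2
    exact huu h2
  obtain rfl : n = 5 := by
    by_contra hne
    obtain ⟨q, hq, hpq, huq⟩ := exists_orth_norm_singular hch.nd hc hp (by omega) hu0 hpu
    exact noq q hq (hpq 0) (hpq 1) huq
  obtain ⟨e, he, hv_e, hw_e, hu_e, hu'_e⟩ : ∃ e, e ≠ 0 ∧ polar ⇑Q v e = 0 ∧ polar ⇑Q w e = 0 ∧
      polar ⇑Q u e = 0 ∧ polar ⇑Q u' e = 0 := by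
    have hr := card_le_finrank_orthFam (Q := Q) ![v, w, u, u']
    rw [Fintype.card_fin] at hr
    have hne : orthFam Q ![v, w, u, u'] ≠ ⊥ := fun e => by
      rw [e, finrank_bot] at hr; omega
    obtain ⟨e, he, he0⟩ := Submodule.exists_mem_ne_zero_of_ne_bot hne
    rw [mem_orthFam] at he
    exact ⟨e, he0, he 0, he 1, he 2, he 3⟩
  have hQe : Q e = -c := by
    rcases z3_cases (Q e) c hc with h1 | h1 | h1
    · exfalso
      obtain ⟨t, rfl⟩ := singular_unique hch.nd hc hp (by omega) hu0 hQu h1 hu_e hpu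
        (fun k => by fin_cases k <;> assumption)
      rw [pl_smul_right, pl_comm Q u' u] at hu'_e
      rcases mul_eq_zero.1 hu'_e with h2 | h2
      · exact he (by rw [h2, zero_smul])
      · exact huu h2
    · exact (noq e h1 hv_e hw_e hu_e).elim
    · exact h1
  set p := v + w - e
  set q := -(v + w + e)
  have hee : polar ⇑Q e e = c := by rw [pl_self_norm hQe, neg_neg]
  have hev : polar ⇑Q e v = 0 := by rw [pl_comm]; exact hv_e
  have hew : polar ⇑Q e w = 0 := by rw [pl_comm]; exact hw_e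
  have hvv := pl_self_norm hv
  have hww := pl_self_norm hw
  have hp1 : Q p = c := by
    simp only [p, Q_sub, Q_add, hv, hw, hvw, hQe, pl_add_left, hv_e, hw_e]
    linear_combination (0 : ZMod 3) * hQu
  have hq1 : Q q = c := by
    simp only [q, QuadraticMap.map_neg, Q_add, hv, hw, hvw, hQe, pl_add_left, hv_e, hw_e]
    ring
  have hpq : polar ⇑Q p q = 0 := by
    simp only [p, q, pl_neg_right, pl_add_right, pl_sub_left, pl_add_left, hvv, hww, hvw, hwv, hee,
      hev, hew, hv_e, hw_e]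
    linear_combination c * CharP.cast_eq_zero (ZMod 3) 3
  have heu : polar ⇑Q e u = 0 := by rw [pl_comm]; exact hu_e
  have hpu1 : polar ⇑Q p u = 0 := by simp [p, pl_sub_left, pl_add_left, hvu, hwu, heu]
  have hqu1 : polar ⇑Q q u = 0 := by simp [q, pl_neg_left, pl_add_left, hvu, hwu, heu]
  have hp2 := (hch.third hp1 hQu hpu1).1
  have hq2 := (hch.third hq1 hQu hqu1).1
  let S : (Fin 5 → ZMod 3) → (Fin 5 → ZMod 3) := fun y =>
    rv Q c p (rv Q c (p + u) (rv Q c q (rv Q c (q + u) y)))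
  have hS : ∀ y, S y = y + (c⁻¹ * polar ⇑Q u y) • (p + q) -
      (c⁻¹ * (polar ⇑Q p y + polar ⇑Q q y + 2 * polar ⇑Q u y)) • u := by
    intro y
    simp only [S, rv_pair hc hq1 hqu1]
    rw [rv_pair hc hp1 hpu1]
    simp only [pl_add_right, pl_sub_right, pl_smul_right, pl_comm Q u q, hqu1, pl_self, hQu, hpq, hpu1,
      mul_zero, add_zero, sub_zero]
    module
  have hSfix : ∀ y, polar ⇑Q u y = 0 → polar ⇑Q p y + polar ⇑Q q y = 0 → S y = y := fun y h1 h2 => by
    rw [hS, h1, h2]; simp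
  have hSv : S v = v := hSfix v (by rw [pl_comm]; exact hvu) (by
    simp [p, q, pl_sub_left, pl_neg_left, pl_add_left, hvv, hwv, hev])
  set g := ψ p * ψ (p + u) * (ψ q * ψ (q + u))
  have hgS : ∀ y, Q y = c → g * ψ y * g⁻¹ = ψ (S y) ∧ Q (S y) = c := by
    intro y hy
    have n1 := rv_norm hc hq2 hy
    have n2 := rv_norm hc hq1 n1
    have n3 := rv_norm hc hp2 n2
    refine ⟨?_, rv_norm hc hp1 n3⟩
    show _ = ψ (rv Q c p (rv Q c (p + u) (rv Q c q (rv Q c (q + u) y))))
    rw [← conj_psi h hch hp1 n3, ← conj_psi h hch hp2 n2, ← conj_psi h hch hq1 n1,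
      ← conj_psi h hch hq2 hy]
    simp only [g]; group
  have hgx : g * x * g⁻¹ = x := by
    have : Commute g x := (((hch.mem p hp1).2.2.symm.mul_left (hch.mem _ hp2).2.2.symm)).mul_left
      ((hch.mem q hq1).2.2.symm.mul_left (hch.mem _ hq2).2.2.symm)
    rw [this.eq, mul_inv_cancel_right]
  have hz' : g * z * g⁻¹ ∈ nonc D x :=
    ⟨h.conj g z hz.1, fun e' => hz.2 ((commute_conj_iff g).1 (by rwa [hgx]))⟩
  have hz'v : Commute (ψ v) (g * z * g⁻¹) := by
    have := (commute_conj_iff g).2 hvz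
    rwa [(hgS v hv).1, hSv] at this
  have hfib := fibre_unique h hx hch hz hn hv hvz hz' hz'v fun t ht hvt => by
    set t1 := rv Q c (q + u) (rv Q c q (rv Q c (p + u) (rv Q c p t)))
    have n1 := rv_norm hc hp1 ht
    have n2 := rv_norm hc hp2 n1
    have n3 := rv_norm hc hq1 n2
    have ht1 : Q t1 = c := rv_norm hc hq2 n3
    have e1 : g⁻¹ * ψ t * g = ψ t1 := by
      show _ = ψ (rv Q c (q + u) (rv Q c q (rv Q c (p + u) (rv Q c p t))))
      rw [← conj_psi h hch hq2 n3, ← conj_psi h hch hq1 n2, ← conj_psi h hch hp2 n1,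
        ← conj_psi h hch hp1 ht, inv_eq h.set (hch.mem p hp1).1, inv_eq h.set (hch.mem q hq1).1,
        inv_eq h.set (hch.mem _ hp2).1, inv_eq h.set (hch.mem _ hq2).1]
      simp only [g, mul_inv_rev, inv_eq h.set (hch.mem p hp1).1, inv_eq h.set (hch.mem q hq1).1,
        inv_eq h.set (hch.mem _ hp2).1, inv_eq h.set (hch.mem _ hq2).1, mul_assoc]
    have hperp : ∀ r, Q r = c → polar ⇑Q r u = 0 → polar ⇑Q (r + u) u = 0 := fun r _ hr => by
      rw [pl_add_left, hr, pl_self, hQu, mul_zero, add_zero]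
    have e2 : polar ⇑Q t1 u = polar ⇑Q t u := by
      simp only [t1, rv_perp (hperp q hq1 hqu1), rv_perp hqu1, rv_perp (hperp p hp1 hpu1), rv_perp hpu1]
    have e3 : polar ⇑Q v t1 = 0 := by
      rw [pl_comm]
      simp only [t1, rv_self_adj]
      have := hSv
      simp only [S] at this
      rw [this, pl_comm]; exact hvt
    have e4 : g * ψ t1 * g⁻¹ = ψ t := by rw [← e1]; group
    rw [← e4, commute_conj_iff, hM t1 ht1 e3, e4, hM t ht hvt, e2]
  have hinv : ∀ y, Q y = c → Commute (ψ y) z → Commute (ψ (S y)) z := by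
    intro y hy hyz
    have := (commute_conj_iff g).2 hyz
    rw [(hgS y hy).1] at this
    rcases hfib with e' | e' <;> rw [e'] at this
    · exact this
    · exact (comm_xzx_iff h hx hch hz (hgS y hy).2).1 this
  have hy : Q (v + u') = c := by rw [Q_add, hv, hQu', hvu', add_zero, add_zero]
  have hu'u' : polar ⇑Q u' u' = 0 := by rw [pl_self, hQu', mul_zero]
  have hwy : polar ⇑Q w (v + u') = 0 := by rw [pl_add_right, hwv, hwu', add_zero]
  have hyz : Commute (ψ (v + u')) z :=
    (hM' _ hy hwy).2 (by rw [pl_add_left, hvu', hu'u', add_zero])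
  have hpw : polar ⇑Q w p = -c := by simp [p, pl_sub_right, pl_add_right, hwv, hww, hw_e]
  have hqw : polar ⇑Q w q = c := by simp [q, pl_neg_right, pl_add_right, hwv, hww, hw_e]
  have hu'p : polar ⇑Q u' p = 0 := by
    simp [p, pl_sub_right, pl_add_right, pl_comm Q u' v, pl_comm Q u' w, hvu', hwu', hu'_e]
  have hu'q : polar ⇑Q u' q = 0 := by
    simp [q, pl_neg_right, pl_add_right, pl_comm Q u' v, pl_comm Q u' w, hvu', hwu', hu'_e]
  have hsum : polar ⇑Q p (v + u') + polar ⇑Q q (v + u') = 0 := by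
    have e1 : polar ⇑Q p (v + u') = -c := by
      rw [pl_add_right, pl_comm Q p u', hu'p, add_zero]
      simp [p, pl_sub_left, pl_add_left, hvv, hwv, hev]
    have e2 : polar ⇑Q q (v + u') = c := by
      rw [pl_add_right, pl_comm Q q u', hu'q, add_zero]
      simp [q, pl_neg_left, pl_add_left, hvv, hwv, hev]
    rw [e1, e2, neg_add_cancel]
  have hSy : polar ⇑Q w (S (v + u')) = 0 := by
    simp [hS, hsum, pl_add_right, pl_sub_right, pl_smul_right, hwv, hwu', hpw, hqw, hwu]
  have key := (hM' _ (hgS _ hy).2 hSy).1 (hinv _ hy hyz)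
  rw [pl_comm, hS, hsum] at key
  simp [pl_sub_right, pl_add_right, pl_smul_right, pl_comm Q u' v, hvu', hu'u', hu'p, hu'q, pl_comm Q u v,
    hvu, pl_comm Q u' u, hc, huu, show (2 : ZMod 3) ≠ 0 by decide] at key

/-- One singular point serves all members commuting with `z`. -/
theorem rad_all (hn : 5 ≤ n) {v0 u : Fin n → ZMod 3} (hv0 : Q v0 = c) (hv0z : Commute (ψ v0) z)
    (hu : Rad Q c ψ z v0 u) {y : Fin n → ZMod 3} (hy : Q y = c) (hyz : Commute (ψ y) z) :
    Rad Q c ψ z y u := by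
  have perp : ∀ v s, Q v = c → Commute (ψ v) z → Rad Q c ψ z v s →
      ∀ t, Q t = c → Commute (ψ t) z → polar ⇑Q t s = 0 := by
    intro v s hv hvz hs t ht htz
    obtain ⟨hs0, hQs, hvs, hMs⟩ := id hs
    obtain ⟨w, hw, hpw, hsw⟩ := exists_orth_norm_singular hch.nd hch.c_ne (orthNorm_one hv) (by omega) hs0
      (fun k => by fin_cases k; exact hvs)
    have hvw : polar ⇑Q v w = 0 := hpw 0
    have hws : polar ⇑Q w s = 0 := by rw [pl_comm]; exact hsw
    have key : ∀ w', Q w' = c → polar ⇑Q v w' = 0 → polar ⇑Q w' s = 0 → polar ⇑Q t w' = 0 →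
        polar ⇑Q t s = 0 := by
      intro w' hw' hvw' hws' htw'
      have hwz := (hMs w' hw' hvw').2 hws'
      obtain ⟨s', hs'⟩ := rad_exists h hx hch hz hn hw' hwz
      obtain ⟨a, rfl⟩ := rad_coherent h hx hch hz hn hv hvz hw' hwz hvw' hs hs'
      exact ((Rad.of_smul hs0 hQs hs').2.2.2 t ht (by rw [pl_comm]; exact htw')).1 htz
    obtain ⟨g1, g2, -⟩ := hch.third hw hQs hws
    by_cases c1 : polar ⇑Q t w = 0
    · exact key w hw hvw hws c1
    by_cases c2 : polar ⇑Q t (w + s) = 0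
    · exact key _ g1 (by rw [pl_add_right, hvw, hvs, add_zero])
        (by rw [pl_add_left, hws, pl_self, hQs, mul_zero, add_zero]) c2
    by_cases c3 : polar ⇑Q t (w - s) = 0
    · exact key _ g2 (by rw [pl_sub_right, hvw, hvs, sub_zero])
        (by rw [pl_sub_left, hws, pl_self, hQs, mul_zero, sub_zero]) c3
    refine orth_radical (polar ⇑Q t w) _ ⟨?_, ?_⟩
    · rw [← pl_add_right]; exact iff_of_false c1 c2
    · rw [← pl_sub_right]; exact iff_of_false c1 c3
  obtain ⟨s, hs⟩ := rad_exists h hx hch hz hn hy hyz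
  obtain ⟨hu0, hQu, hv0u, hM⟩ := id hu
  obtain ⟨P, hP, hPu, hPs⟩ := exists_family hch.nd hch.c_ne hu0 (orthNorm_one hv0)
    (fun k => by fin_cases k; exact hv0u) (j := n - 3) (by omega) (by omega)
  obtain ⟨iv, hiv⟩ := hPs 0
  simp only [Matrix.cons_val_zero] at hiv
  have hPz : ∀ k, Commute (ψ (P k)) z := fun k => by
    by_cases hk : k = iv
    · rw [hk, hiv]; exact hv0z
    · exact (hM _ (hP.1 k) (by rw [← hiv]; exact hP.2 iv k (Ne.symm hk))).2 (hPu k)
  have hPsu : ∀ k, polar ⇑Q (P k) s = 0 := fun k => perp y s hy hyz hs _ (hP.1 k) (hPz k)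
  obtain ⟨k0, hk0⟩ : ∃ k0, k0 ≠ iv := by
    by_contra hcon
    simp only [not_exists, not_not] at hcon
    have h1 := (hcon ⟨0, by omega⟩).trans (hcon ⟨1, by omega⟩).symm
    exact Nat.zero_ne_one (congrArg Fin.val h1)
  have hus : polar ⇑Q u s = 0 := by
    have hk : polar ⇑Q v0 (P k0) = 0 := by rw [← hiv]; exact hP.2 iv k0 (Ne.symm hk0)
    have h1 := (hch.third (hP.1 k0) hQu (hPu k0)).1
    have h2 := perp y s hy hyz hs _ h1 ((hM _ h1 (by rw [pl_add_right, hk, hv0u, add_zero])).2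
      (by rw [pl_add_left, hPu, pl_self, hQu, mul_zero, add_zero]))
    rwa [pl_add_left, hPsu, zero_add] at h2
  obtain ⟨t, rfl⟩ := singular_unique hch.nd hch.c_ne hP (by omega) hu0 hQu hs.2.1 hus hPu hPsu
  exact Rad.of_smul hu0 hQu hs

/-- The pattern of one member not commuting with `x`. -/
theorem pattern_of_nonc (hn : 5 ≤ n) {v0 : Fin n → ZMod 3} (hv0 : Q v0 = c)
    (hv0z : Commute (ψ v0) z) :
    ∃ u, u ≠ 0 ∧ Q u = 0 ∧ ∀ v, Q v = c → (Commute (ψ v) z ↔ polar ⇑Q u v = 0) := by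
  obtain ⟨u, hu⟩ := rad_exists h hx hch hz hn hv0 hv0z
  have all := fun y hy hyz => rad_all h hx hch hz hn hv0 hv0z hu (y := y) hy hyz
  obtain ⟨hu0, hQu, hv0u, -⟩ := hu
  have hc := hch.c_ne
  have mp : ∀ v, Q v = c → Commute (ψ v) z → polar ⇑Q v u = 0 := fun v hv hvz => (all v hv hvz).2.2.1
  have ext' : ∀ y r, Q y = c → Commute (ψ y) z → Q r = c → polar ⇑Q r u = 0 → polar ⇑Q y r = 0 →
      Commute (ψ r) z := fun y r hy hyz hr hru hyr => ((all y hy hyz).2.2.2 r hr hyr).2 hru
  have shiftz : ∀ p, Q p = c → Commute (ψ p) z → Commute (ψ (p + u)) z := by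
    intro p hp hpz
    have hpu := mp p hp hpz
    obtain ⟨w, hw, hpw, huw⟩ := exists_orth_norm_singular hch.nd hc (orthNorm_one hp) (by omega) hu0
      (fun k => by fin_cases k; exact hpu)
    have hpw0 : polar ⇑Q p w = 0 := hpw 0
    have hwu : polar ⇑Q w u = 0 := by rw [pl_comm]; exact huw
    exact ext' w _ hw (ext' p w hp hpz hw hwu hpw0) (hch.third hp hQu hpu).1
      (by rw [pl_add_left, hpu, pl_self, hQu, mul_zero, add_zero])
      (by rw [pl_add_right, pl_comm Q w p, hpw0, hwu, add_zero])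
  refine ⟨u, hu0, hQu, fun r hr => ⟨fun e => by rw [pl_comm]; exact mp r hr e, fun hur => ?_⟩⟩
  by_contra hrz
  have hru : polar ⇑Q r u = 0 := by rw [pl_comm]; exact hur
  obtain ⟨r', hr', hrr, hur'⟩ := exists_orth_norm_singular hch.nd hc (orthNorm_one hr) (by omega) hu0
    (fun k => by fin_cases k; exact hru)
  have hrr' : polar ⇑Q r r' = 0 := hrr 0
  have hr'r : polar ⇑Q r' r = 0 := by rw [pl_comm]; exact hrr'
  have hr'u : polar ⇑Q r' u = 0 := by rw [pl_comm]; exact hur'
  have hr'z : ¬ Commute (ψ r') z := fun e => hrz (ext' r' r hr' e hr hru hr'r)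
  have hR := hch.mem r hr
  have hR' := hch.mem r' hr'
  have cRR : Commute (ψ r) (ψ r') := hch.comm_of_orth hr hr' hrr'
  have hRne : ψ r ≠ ψ r' := fun e =>
    hch.pl_ne_of_eq hr ((hch.eq_iff r r' hr hr').1 e) hrr'
  obtain ⟨hab, hvD, hvx, hcvx, hvav, hRv, hvR⟩ := path_facts h hx hz.1 hR.1 hR'.1 hR'.2.2 cRR hz.2
    hrz hr'z hR.2.2 hRne hR'.2.1
  obtain ⟨-, -, -, -, -, hR'v, hvR'⟩ := path_facts h hx hz.1 hR'.1 hR.1 hR.2.2 cRR.symm hz.2
    hr'z hrz hR'.2.2 hRne.symm hR.2.1
  set a := ψ r * z * ψ r with ha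
  set b := ψ r' * z * ψ r' with hb
  set v := a * b * x * (b * a) with hv
  rw [show b * a * x * (a * b) = v by rw [hv, hab.eq]] at hR'v hvR'
  obtain ⟨v2, hv2, ev2⟩ := hch.surj v ⟨hvD, hvx, hcvx.symm⟩
  have hrv : polar ⇑Q r v2 = 0 := hch.pl_eq_zero hr hv2 (by rwa [ev2]) (by rw [ev2]; exact hvR.symm)
  have hr'v : polar ⇑Q r' v2 = 0 := hch.pl_eq_zero hr' hv2 (by rwa [ev2]) (by rw [ev2]; exact hvR'.symm)
  have conjR : ∀ s y, Q s = c → Q y = c →
      (Commute (ψ (rv Q c s y)) (ψ s * z * ψ s) ↔ Commute (ψ y) z) := by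
    intro s y hs hy
    have := commute_conj_iff (ψ s) (a := ψ y) (b := z)
    rwa [conj_psi h hch hs hy, inv_eq h.set (hch.mem s hs).1] at this
  have hv2u : polar ⇑Q v2 u = 0 := by
    by_contra hne
    have step : ∀ y, Q y = c → Commute (ψ y) z → polar ⇑Q v2 y = 0 := by
      intro y hy hyz
      set ya := rv Q c r y
      have hya : Q ya = c := rv_norm hc hr hy
      have h1 : polar ⇑Q ya u = 0 := by rw [rv_perp hru]; exact mp y hy hyz
      have h2 : Commute (ψ (rv Q c v2 ya)) b := by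
        have e := (commute_conj_iff (ψ v2)).2 ((conjR r y hr hy).2 hyz)
        rw [conj_psi h hch hv2 hya, inv_eq h.set (hch.mem v2 hv2).1, ev2, ← ha, hvav] at e
        have ex : x * ψ (rv Q c v2 ya) * x⁻¹ = ψ (rv Q c v2 ya) := by
          rw [(hch.mem _ (rv_norm hc hv2 hya)).2.2.eq, mul_inv_cancel_right]
        rw [← ex, show x * b * x = x * b * x⁻¹ by rw [inv_eq h.set hx]] at e
        exact (commute_conj_iff x).1 e
      set yb := rv Q c v2 ya
      have hyb : Q yb = c := rv_norm hc hv2 hya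
      have h3 : Commute (ψ (rv Q c r' yb)) z := by
        have e := (commute_conj_iff (ψ r')).2 h2
        rw [conj_psi h hch hr' hyb, inv_eq h.set hR'.1,
          show ψ r' * b * ψ r' = z by
            simp only [hb, mul_assoc, mul_self_cancel h.set hR'.1, mul_self h.set hR'.1, mul_one]] at e
        exact e
      have h4 := mp _ (rv_norm hc hr' hyb) h3
      rw [rv_perp hr'u, show yb = ya - (c⁻¹ * polar ⇑Q v2 ya) • v2 from rfl, pl_sub_left, pl_smul_left,
        h1, zero_sub, neg_eq_zero, mul_eq_zero] at h4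
      have h5 : polar ⇑Q v2 ya = 0 :=
        (mul_eq_zero.1 (h4.resolve_right hne)).resolve_left (inv_ne_zero hc)
      rwa [show ya = y - (c⁻¹ * polar ⇑Q r y) • r from rfl, pl_sub_right, pl_smul_right,
        pl_comm Q v2 r, hrv, mul_zero, sub_zero] at h5
    have h1 := step _ (hch.third hv0 hQu hv0u).1 (shiftz v0 hv0 hv0z)
    rw [pl_add_right, step v0 hv0 hv0z, zero_add] at h1
    exact hne h1
  -- transvections along u fixing x and z
  let T : Set (Fin n → ZMod 3) := {P | polar ⇑Q P u = 0 ∧ ∃ g : G, Commute g x ∧ Commute g z ∧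
    ∀ y, Q y = c → polar ⇑Q u y = 0 → g * ψ y * g⁻¹ = ψ (y - (c⁻¹ * polar ⇑Q P y) • u)}
  have hTadd : ∀ P1 ∈ T, ∀ P2 ∈ T, P1 + P2 ∈ T := by
    rintro P1 ⟨k1, g1, a1, b1, d1⟩ P2 ⟨k2, g2, a2, b2, d2⟩
    refine ⟨by rw [pl_add_left, k1, k2, add_zero], g2 * g1, a2.mul_left a1, b2.mul_left b1,
      fun y hy huy => ?_⟩
    set y1 := y - (c⁻¹ * polar ⇑Q P1 y) • u
    have hy1 : Q y1 = c := by
      simp [y1, Q_sub, Q_smul, hQu, hy, pl_smul_right, pl_comm Q y u, huy]
    have huy1 : polar ⇑Q u y1 = 0 := by simp [y1, pl_sub_right, pl_smul_right, huy, pl_self, hQu]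
    calc g2 * g1 * ψ y * (g2 * g1)⁻¹ = g2 * (g1 * ψ y * g1⁻¹) * g2⁻¹ := by group
      _ = ψ (y1 - (c⁻¹ * polar ⇑Q P2 y1) • u) := by rw [d1 y hy huy, d2 y1 hy1 huy1]
      _ = _ := by
        congr 1
        simp only [y1, pl_sub_right, pl_smul_right, k2, mul_zero, sub_zero, pl_add_left]
        module
  have hTz : (0 : Fin n → ZMod 3) ∈ T :=
    ⟨pl_zero_left Q u, 1, Commute.one_left _, Commute.one_left _, fun y _ _ => by simp [pl_zero_left]⟩
  have hTsmul : ∀ (t : ZMod 3), ∀ P ∈ T, t • P ∈ T := by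
    intro t P hP
    rcases z3_cases t 1 one_ne_zero with rfl | rfl | rfl
    · rwa [zero_smul]
    · rwa [one_smul]
    · rw [show (-1 : ZMod 3) = 1 + 1 by decide, add_smul, one_smul]; exact hTadd P hP P hP
  have hTM : ∀ p, Q p = c → Commute (ψ p) z → p ∈ T := by
    intro p hp hpz
    have hpu := mp p hp hpz
    have hp' := (hch.third hp hQu hpu).1
    refine ⟨hpu, ψ p * ψ (p + u), (hch.mem p hp).2.2.symm.mul_left (hch.mem _ hp').2.2.symm,
      hpz.mul_left (shiftz p hp hpz), fun y hy huy => ?_⟩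
    calc ψ p * ψ (p + u) * ψ y * (ψ p * ψ (p + u))⁻¹
        = ψ p * (ψ (p + u) * ψ y * (ψ (p + u))⁻¹) * (ψ p)⁻¹ := by group
      _ = ψ (rv Q c p (rv Q c (p + u) y)) := by
          rw [conj_psi h hch hp' hy, conj_psi h hch hp (rv_norm hc hp' hy)]
      _ = _ := by rw [rv_pair hc hp hpu, huy]; simp
  have hTu : u ∈ T := by
    have h1 := hTM v0 hv0 hv0z
    have h2 := hTM _ (hch.third hv0 hQu hv0u).1 (shiftz v0 hv0 hv0z)
    have := hTadd _ (hTsmul (-1) v0 h1) _ h2
    rwa [neg_smul, one_smul, neg_add_cancel_left] at this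
  obtain ⟨P, hP, hPu, hPs⟩ := exists_family hch.nd hc hu0 (orthNorm_one hv0)
    (fun k => by fin_cases k; exact hv0u) (j := n - 3) (by omega) (by omega)
  obtain ⟨iv, hiv⟩ := hPs 0
  simp only [Matrix.cons_val_zero] at hiv
  have hPz : ∀ k, Commute (ψ (P k)) z := fun k => by
    by_cases hk : k = iv
    · rw [hk, hiv]; exact hv0z
    · exact ext' v0 _ hv0 hv0z (hP.1 k) (hPu k) (by rw [← hiv]; exact hP.2 iv k (Ne.symm hk))
  obtain ⟨e, hPe, heu, hespan⟩ : ∃ e, (∀ k, polar ⇑Q (P k) e = 0) ∧ polar ⇑Q e u = 0 ∧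
      e ∉ Submodule.span (ZMod 3) {u} := by
    by_contra hcon
    simp only [not_exists, not_and, not_not] at hcon
    have hle : orthFam Q (Fin.cons u P : Fin (n - 3 + 1) → Fin n → ZMod 3) ≤
        Submodule.span (ZMod 3) {u} := fun y hy => by
      rw [mem_orthFam] at hy
      have hyu : polar ⇑Q y u = 0 := by
        have := hy 0; rw [Fin.cons_zero, pl_comm] at this; exact this
      exact hcon y (fun k => by have := hy k.succ; rwa [Fin.cons_succ] at this) hyu
    have h1 := card_le_finrank_orthFam (Q := Q) (Fin.cons u P : Fin (n - 3 + 1) → Fin n → ZMod 3)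
    have h2 := (Submodule.finrank_mono hle).trans (finrank_span_singleton hu0).le
    rw [Fintype.card_fin] at h1
    omega
  have hQe0 : Q e ≠ 0 := fun e0 => by
    obtain ⟨t, rfl⟩ := singular_unique hch.nd hc hP (by omega) hu0 hQu e0 (by rw [pl_comm]; exact heu) hPu hPe
    exact hespan (Submodule.smul_mem _ _ (Submodule.mem_span_singleton_self u))
  have hee : polar ⇑Q e e ≠ 0 := by
    rw [pl_self]; exact mul_ne_zero (by decide) hQe0
  -- coordinates on the perpendicular space of u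
  have coord : ∀ y, polar ⇑Q y u = 0 → ∃ (al : Fin (n - 3) → ZMod 3) (ga de : ZMod 3),
      y = ∑ k, al k • P k + ga • e + de • u := by
    intro y hyu
    set ga := polar ⇑Q e y / polar ⇑Q e e
    set y' := proj Q c P y - ga • e
    have h1 : ∀ k, polar ⇑Q (P k) y' = 0 := fun k => by
      rw [pl_sub_right, polar_proj hP hc, pl_smul_right, hPe, mul_zero, sub_zero]
    have h2 : polar ⇑Q e y' = 0 := by
      rw [pl_sub_right, polar_proj_of_orth hPe, pl_smul_right, div_mul_cancel₀ _ hee, sub_self]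
    have h3 : polar ⇑Q u y' = 0 := by
      rw [pl_sub_right, polar_proj_of_orth hPu, pl_smul_right, pl_comm Q u y, hyu, pl_comm Q u e, heu,
        mul_zero, sub_zero]
    obtain ⟨de, hde⟩ := perp_unique hch.nd hc hP (by omega) hu0 hQu hQe0 heu hPu hPe h1 h2 h3
    refine ⟨fun k => -(c⁻¹ * polar ⇑Q (P k) y), ga, de, ?_⟩
    rw [← hde]
    simp only [y', proj, neg_smul, Finset.sum_neg_distrib]
    abel
  have hPP : ∀ i j, polar ⇑Q (P i) (P j) = if i = j then -c else 0 := fun i j => by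
    by_cases hij : i = j
    · subst hij; rw [if_pos rfl, pl_self_norm (hP.1 i)]
    · rw [if_neg hij, hP.2 i j hij]
  -- the space spanned by the shifts is too large
  have fin : (∀ y, polar ⇑Q y u = 0 → y ∈ T) → False := by
    intro hall
    obtain ⟨-, g, hgx, hgz, hg⟩ := hall v2 hv2u
    have gfix : ∀ s, Q s = c → polar ⇑Q u s = 0 → polar ⇑Q v2 s = 0 → Commute g (ψ s) := by
      intro s hs hus hvs
      have := hg s hs hus
      rw [hvs, mul_zero, zero_smul, sub_zero] at this
      exact eq_mul_inv_iff_mul_eq.1 this.symm |>.symm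
    have cr := gfix r hr hur (by rw [pl_comm]; exact hrv)
    have cr' := gfix r' hr' hur' (by rw [pl_comm]; exact hr'v)
    have ca : Commute g a := (cr.mul_right hgz).mul_right cr
    have cb : Commute g b := (cr'.mul_right hgz).mul_right cr'
    have cv : Commute g v := ((ca.mul_right cb).mul_right hgx).mul_right (cb.mul_right ca)
    have h1 := hg v2 hv2 (by rw [pl_comm]; exact hv2u)
    rw [ev2, cv.eq, mul_inv_cancel_right, ← ev2] at h1
    have hQ : Q (v2 - (c⁻¹ * polar ⇑Q v2 v2) • u) = c := by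
      simp [Q_sub, Q_smul, hQu, hv2, pl_smul_right, hv2u]
    have h2 := congrArg (polar ⇑Q v2) ((hch.eq_iff _ _ hv2 hQ).1 h1 |>.elim (fun h3 => ?_) id)
    · rw [pl_sub_right, pl_smul_right, hv2u, mul_zero, sub_zero, pl_neg_right, pl_self_norm hv2,
        neg_neg] at h2
      exact hc ((show ∀ t : ZMod 3, -t = t → t = 0 by decide) c h2)
    · exfalso
      rw [sub_eq_self, pl_self_norm hv2, smul_eq_zero] at h3
      exact h3.elim (mul_ne_zero (inv_ne_zero hc) (neg_ne_zero.2 hc)) hu0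
  have hTall : e ∈ T → False := fun he => fin fun y hy => by
    obtain ⟨al, ga, de, rfl⟩ := coord y hy
    refine hTadd _ (hTadd _ ?_ _ (hTsmul ga e he)) _ (hTsmul de u hTu)
    induction (Finset.univ : Finset (Fin (n - 3))) using Finset.induction_on with
    | empty => simpa using hTz
    | insert k s hk ih =>
      rw [Finset.sum_insert hk]
      exact hTadd _ (hTsmul _ _ (hTM _ (hP.1 k) (hPz k))) _ ih
  rcases z3_cases (Q e) c hc with hQe | hQe | hQe
  · exact hQe0 hQe
  · exact hTall (hTM e hQe (ext' v0 e hv0 hv0z hQe heu (by rw [← hiv]; exact hPe iv)))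
  by_cases hn6 : 6 ≤ n
  · obtain ⟨i0, i1, i2, h01, h02, h12⟩ : ∃ i0 i1 i2 : Fin (n - 3), i0 ≠ i1 ∧ i0 ≠ i2 ∧ i1 ≠ i2 :=
      ⟨⟨0, by omega⟩, ⟨1, by omega⟩, ⟨2, by omega⟩, by simp [Fin.ext_iff], by simp [Fin.ext_iff],
        by simp [Fin.ext_iff]⟩
    set p := P i0 + P i1 + e
    have hp : Q p = c := by
      simp [p, Q_add, pl_add_left, hP.1, hPP, h01, hPe, hQe]
    have hpu : polar ⇑Q p u = 0 := by simp [p, pl_add_left, hPu, heu]
    have hpz : Commute (ψ p) z := ext' (P i2) p (hP.1 i2) (hPz i2) hp hpu (by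
      simp [p, pl_add_right, hPP, h02.symm, h12.symm, hPe])
    have := hTadd _ (hTM p hp hpz) _ (hTadd _ (hTsmul (-1) _ (hTM _ (hP.1 i0) (hPz i0))) _
      (hTsmul (-1) _ (hTM _ (hP.1 i1) (hPz i1))))
    refine hTall ?_
    convert this using 1
    simp only [p]
    module
  obtain rfl : n = 5 := by omega
  have hee' : polar ⇑Q e e = c := by rw [pl_self_norm hQe, neg_neg]
  have bil : ∀ (al : Fin 2 → ZMod 3) (ga de : ZMod 3) (al' : Fin 2 → ZMod 3) (ga' de' : ZMod 3),
      polar ⇑Q (∑ k, al k • P k + ga • e + de • u) (∑ k, al' k • P k + ga' • e + de' • u) =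
        -c * (al 0 * al' 0 + al 1 * al' 1 - ga * ga') := by
    intro al ga de al' ga' de'
    simp [Fin.sum_univ_two, pl_add_left, pl_add_right, pl_smul_left, pl_smul_right, hPP, hPe, hPu, heu,
      hee', pl_self, hQu, pl_comm Q e (P _), pl_comm Q u (P _), pl_comm Q u e]
    ring
  obtain ⟨a1, g1, d1, e1⟩ := coord r hru
  obtain ⟨a2, g2, d2, e2⟩ := coord r' hr'u
  obtain ⟨a3, g3, d3, e3⟩ := coord v2 hv2u
  have unit : ∀ {w : Fin 5 → ZMod 3} {al : Fin 2 → ZMod 3} {ga de : ZMod 3}, Q w = c → w = ∑ k, al k • P k + ga • e + de • u →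
      al 0 * al 0 + al 1 * al 1 - ga * ga = 1 := by
    intro w al ga de hw e0
    have := bil al ga de al ga de
    rw [← e0, pl_self_norm hw] at this
    exact mul_left_cancel₀ (neg_ne_zero.2 hc) (by rw [← this, mul_one])
  have orth : ∀ {w w' : Fin 5 → ZMod 3} {al : Fin 2 → ZMod 3} {ga de : ZMod 3} {al' : Fin 2 → ZMod 3}
      {ga' de' : ZMod 3}, polar ⇑Q w w' = 0 → w = ∑ k, al k • P k + ga • e + de • u →
      w' = ∑ k, al' k • P k + ga' • e + de' • u →
      al 0 * al' 0 + al 1 * al' 1 - ga * ga' = 0 := by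
    intro w w' al ga de al' ga' de' hw e0 e0'
    have := bil al ga de al' ga' de'
    rw [← e0, ← e0', hw] at this
    exact (mul_eq_zero.1 this.symm).resolve_left (neg_ne_zero.2 hc)
  exact no_triple _ _ _ (unit hr e1) _ _ _ (unit hr' e2) (orth hrr' e1 e2) _ _ _ (unit hv2 e3)
    (orth hrv e1 e3) (orth hr'v e2 e3)

end point

theorem exists_pattern [Finite G] (h : Base D) (hconn : ConnectedComm D) (hn : 5 ≤ n) {x : G} (hx : x ∈ D)
    (hch : Chart3 (adj D x) Q c ψ) :
    ∀ z ∈ nonc D x, ∃ u, u ≠ 0 ∧ Q u = 0 ∧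
      ∀ v, Q v = c → (Commute (ψ v) z ↔ polar ⇑Q u v = 0) := by
  intro z hz
  obtain ⟨y, hy⟩ := h.common_nonempty hconn hx hz.1 hz.2
  obtain ⟨v0, hv0, rfl⟩ := hch.surj y hy.1
  exact pattern_of_nonc h hx hch hz hn hv0 hy.2.2.2.symm

end Cfsg.Agent.FischerMain
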