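/-
Recognition of the orthogonal classes over three elements from one local chart.

Main result: `o3_recognition`.
-/
import Cfsg.Agent.Lib.FischerMain.O3.Pattern
import Cfsg.Agent.Lib.FischerMain.O3.Build

set_option autoImplicit false

namespace Cfsg.Agent.FischerMain

open Cfsg Cfsg.Agent.ThreeTransRank Cfsg.Agent.ThreeTrans

variable {G : Type*} [Group G] [Finite G] {D : Set G} {n : ℕ}
  {Q : QuadraticForm (ZMod 3) (Fin n → ZMod 3)} {c : ZMod 3} {ψ : (Fin n → ZMod 3) → G} {x : G}

/-- A class with an orthogonal chart at one member has one, a dimension higher, everywhere. -/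
theorem o3_recognition (h : Base D) (hconn : ConnectedComm D) (hn : 5 ≤ n) (hx : x ∈ D)
    (hch : Chart3 (adj D x) Q c ψ) :
    ∃ (Q' : QuadraticForm (ZMod 3) (Fin (n + 1) → ZMod 3)) (ψ' : (Fin (n + 1) → ZMod 3) → G),
      Chart3 D Q' c ψ' ∧ polarGramDet ⇑Q' = 2 * c * polarGramDet ⇑Q :=
  exists_chart_succ h hconn hn hx hch (exists_pattern h hconn hn hx hch)

/-- A class with an orthogonal chart at one member is orthogonal. -/
theorem o3Kind_of_local (h : Base D) (hconn : ConnectedComm D) (hn : 5 ≤ n) (hx : x ∈ D)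
    (hch : Chart3 (adj D x) Q c ψ) : O3Kind G D := by
  obtain ⟨Q', ψ', hc', -⟩ := o3_recognition h hconn hn hx hch
  exact hc'.o3Kind h (hn.trans n.le_succ)

end Cfsg.Agent.FischerMain
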